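import Groth.Agent.H02CA.PerfRep.Rep
import Groth.Agent.H16Derived.Thomason.Generator
import Groth.Agent.H16Derived.Thomason.Adj
import Groth.Agent.LeadBrown.Rpush
import Groth.Prelude.Def_KLin
import Groth.Prelude.Def_SGA6
import Groth.Prelude.Def_RelProj
import Mathlib.CategoryTheory.Linear.Yoneda
import Mathlib.Algebra.Category.ModuleCat.Basic
import Mathlib.RingTheory.Finiteness.Defs
import Mathlib.Data.Set.Finite.Basic

/-!
# Functors on perfect objects of a scheme over a field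
-/

set_option autoImplicit false
set_option linter.style.haveILetI false

universe u

open CategoryTheory CategoryTheory.Limits AlgebraicGeometry CategoryTheory.Pretriangulated Opposite

attribute [local instance] HasDerivedCategory.standard

noncomputable section

namespace Groth.Agent.H02CA.PerfRep

open Groth.Agent.H16Derived Groth.Agent.H16Derived.Thomason Groth.Agent.H16Derived.KFlat
  Groth.Agent.H16Derived.KFlat.Stalk
attribute [local instance] hasCoproducts_D small_hom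

variable (k : Type u) [Field k] (X : Scheme.{u}) [X.Over (Spec (.of k))]

theorem closed_perf : Closed (SGA6.perfP X) where
  cocone T hT h₂ h₃ := isPerfect_obj₁ hT h₂ h₃
  biprod hA hB := isPerfect_biprod hA hB

variable [(SGA6.perfP X).IsTriangulated]
  (H : ((SGA6.perfP X).FullSubcategory)ᵒᵖ ⥤ ModuleCat.{u + 1} k)

variable {k X} in
theorem finite_of_shift (K : ((SGA6.perfP X).FullSubcategory)ᵒᵖ)
    (h : ∀ n : ℤ, Module.Finite k (H.obj (op ((shiftFunctor ((SGA6.perfP X).FullSubcategory) n).obj K.unop)))) :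
    Module.Finite k (H.obj K) := by
  haveI := h 0
  exact Module.Finite.equiv
    (H.mapIso ((shiftFunctorZero ((SGA6.perfP X).FullSubcategory) ℤ).app K.unop).op).symm.toLinearEquiv

variable [H.Additive]

theorem exists_rep [CompactSpace X] [QuasiSeparatedSpace X]
    (hlin : ∀ (A B : (SGA6.perfP X).FullSubcategory) (r : k) (f : A ⟶ B), H.map (r • f).op = r • H.map f.op)
    (hcoh : ∀ T ∈ distTriang (DCoh.D X), ∀ (h₁ : DCoh.IsPerfect T.obj₁)
      (h₂ : DCoh.IsPerfect T.obj₂) (h₃ : DCoh.IsPerfect T.obj₃)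
      (y : H.obj (op ⟨T.obj₂, h₂⟩)),
      H.map (ObjectProperty.homMk T.mor₁ : (⟨T.obj₁, h₁⟩ : (SGA6.perfP X).FullSubcategory) ⟶ ⟨T.obj₂, h₂⟩).op y = 0 →
        ∃ z : H.obj (op ⟨T.obj₃, h₃⟩),
          H.map (ObjectProperty.homMk T.mor₂ : (⟨T.obj₂, h₂⟩ : (SGA6.perfP X).FullSubcategory) ⟶ ⟨T.obj₃, h₃⟩).op z = y)
    (hfin : ∀ K, Module.Finite k (H.obj K)) :
    ∃ F : DCoh.D X, DCoh.IsQCohD F ∧
      Nonempty (H ≅ (ObjectProperty.ι (SGA6.perfP X)).op ⋙ (linearYoneda k (DCoh.D X)).obj F) := by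
  obtain ⟨G, hG, hgen⟩ := hasGen (X := X) Set.univ isClosed_univ (by simp)
  let σ : ULift.{u} ℤ → (SGA6.perfP X).FullSubcategory := fun i =>
    ⟨G⟦i.down⟧, (hG.shift isClosed_univ i.down).1⟩
  haveI : ∀ (i : ULift.{u} ℤ) (Z : DCoh.D X), Small.{u} ((σ i).obj ⟶ Z) := fun i Z => small_hom _ _
  obtain ⟨F, hF, h⟩ := exists_representing H (closed_perf X) hcoh hfin
    (P := PQ Set.univ) (fun K hK => holds_of_isPerfect (fun _ h => h.1) hK) σ (loc_pq isClosed_univ)
    (fun K hK => ⟨Dual.isQCohD_of_isPerfect hK, suppIn_univ K⟩) hlin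
    (fun Z n h => h.shift isClosed_univ n)
    (fun i n => ⟨⟨i.down + n⟩, ⟨(shiftFunctorAdd (DCoh.D X) i.down n).app G⟩⟩)
    (fun M hM h => hgen M hM fun n g => h ⟨n⟩ g)
  exact ⟨F, hF.1, h⟩

variable {k X} in
/-- Finiteness of `Ext(E, F)` from that of a functor represented by `F`. -/
theorem ext_of_rep (F : DCoh.D X)
    (e : H ≅ (ObjectProperty.ι (SGA6.perfP X)).op ⋙ (linearYoneda k (DCoh.D X)).obj F)
    (E : DCoh.D X) (hE : DCoh.IsPerfect E)
    (hfin : (∀ n : ℤ, Module.Finite k (H.obj (op ((shiftFunctor ((SGA6.perfP X).FullSubcategory) n).obj ⟨E, hE⟩)))) ∧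
      Set.Finite {n : ℤ | Nontrivial (H.obj (op ((shiftFunctor ((SGA6.perfP X).FullSubcategory) n).obj ⟨E, hE⟩)))}) :
    (∀ i : ℤ, Module.Finite k (E ⟶ (shiftFunctor (DCoh.D X) i).obj F)) ∧
      Set.Finite {i : ℤ | Nontrivial (E ⟶ (shiftFunctor (DCoh.D X) i).obj F)} := by
  let c := fun i : ℤ => (shiftFunctorCompIsoId (DCoh.D X) (-i) i (neg_add_cancel i)).app E
  have hψ : ∀ i : ℤ, ∃ ψ : ((shiftFunctor (DCoh.D X) (-i)).obj E ⟶ F) →ₗ[k]
      (E ⟶ (shiftFunctor (DCoh.D X) i).obj F), Function.Bijective ψ := fun i => by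
    refine ⟨{ toFun := fun g => (c i).inv ≫ (shiftFunctor (DCoh.D X) i).map g
              map_add' := fun f g => by simp
              map_smul' := fun r g => by simp }, ?_⟩
    exact ⟨fun f g h => (shiftFunctor (DCoh.D X) i).map_injective ((cancel_epi (c i).inv).1 h),
      fun g => ⟨(shiftFunctor (DCoh.D X) i).preimage ((c i).hom ≫ g), by simp⟩⟩
  have hL : ∀ i : ℤ, Nonempty ((H.obj (op ((shiftFunctor ((SGA6.perfP X).FullSubcategory) (-i)).obj ⟨E, hE⟩)))
      ≃ₗ[k] (E ⟶ (shiftFunctor (DCoh.D X) i).obj F)) := fun i => by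
    obtain ⟨ψ, hψ⟩ := hψ i
    exact ⟨((e.app (op ((shiftFunctor ((SGA6.perfP X).FullSubcategory) (-i)).obj ⟨E, hE⟩))).toLinearEquiv.trans
      (Linear.homCongr k (((ObjectProperty.ι (SGA6.perfP X)).commShiftIso (-i)).app ⟨E, hE⟩) (Iso.refl F))).trans
      (LinearEquiv.ofBijective ψ hψ)⟩
  refine ⟨fun i => ?_, ((hfin.2).preimage (neg_injective.injOn)).subset fun i hi => ?_⟩
  · haveI := hfin.1 (-i)
    exact Module.Finite.equiv (hL i).some
  · haveI : Nontrivial (E ⟶ (shiftFunctor (DCoh.D X) i).obj F) := hi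
    exact (hL i).some.toEquiv.nontrivial

end Groth.Agent.H02CA.PerfRep
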