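import Groth.Agent.H02CA.PerfRep.Detect
import Groth.Agent.S6743
import Groth.Agent.S1001
import Groth.Agent.S1005
import Groth.Agent.H16Derived.QCohD.Lpull
import Groth.Agent.H16Derived.FMKWit.Main
import Groth.Agent.H10Coh.Support
import Groth.Prelude.Def_Models

/-!
# Bounded coherent objects on a regular proper scheme are detected by perfect objects (main statement)
-/

set_option autoImplicit false
set_option linter.style.haveILetI false
set_option backward.isDefEq.respectTransparency false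

universe u

open CategoryTheory CategoryTheory.Limits AlgebraicGeometry CategoryTheory.Pretriangulated

attribute [local instance] HasDerivedCategory.standard

noncomputable section

namespace Groth.Agent.H02CA.PerfRep

open Groth.Agent.H16Derived Groth.Agent.H16Derived.KFlat Groth.Agent.H16Derived.KFlat.Stalk

theorem isPerfect_rpush_of_proper {X X' : Scheme.{u}} [IsNoetherian X] [IsLocallyNoetherian X']
    (hreg : ∀ x : X, IsRegularLocalRing (X.presheaf.stalk x)) (π : X' ⟶ X) [IsProper π] [DCoh.HasRpush π]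
    {E : DCoh.D X'} (hE : DCoh.IsPerfect E) : DCoh.IsPerfect ((DCoh.Rpush π).obj E) := by
  haveI : CompactSpace X' := QuasiCompact.compactSpace_of_compactSpace π
  haveI : QuasiSeparatedSpace X' := quasiSeparatedSpace_of_quasiSeparated π
  have hc := FMKWit.isCohD_of_isPerfect hE
  obtain ⟨a, b, ha, hb⟩ := FMKWit.exists_bounds_of_isPerfect hE
  haveI := ha
  haveI := hb
  obtain ⟨h1, h2, b', h3⟩ := S1001.result π E a b hc fun i =>
    ⟨H10Coh.isClosed_support _ (hc i).2, inferInstance⟩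
  haveI := h2
  haveI := h3
  exact S1005.result X hreg _ a b' h1

theorem cohbP_rd {U X : Scheme.{u}} [IsLocallyNoetherian X] (j : U ⟶ X) [IsOpenImmersion j] {K : DCoh.D X}
    (h : SGA6.cohbP X K) : SGA6.cohbP U ((rd j).obj K) := by
  obtain ⟨hc, a, b, ha, hb⟩ := h
  haveI := ha
  haveI := hb
  refine ⟨fun i => H10Coh.isCoh_of_iso (homologyRdIso j K i).symm (H10Coh.isCoh_restrict j _ (hc i)), a, b,
    (DerivedCategory.isGE_iff _ _).2 fun i hi => ?_, (DerivedCategory.isLE_iff _ _).2 fun i hi => ?_⟩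
  · exact (Functor.map_isZero (Scheme.Modules.restrictFunctor j) (DerivedCategory.isZero_of_isGE K a i hi)).of_iso
      (homologyRdIso j K i)
  · exact (Functor.map_isZero (Scheme.Modules.restrictFunctor j) (DerivedCategory.isZero_of_isLE K b i hi)).of_iso
      (homologyRdIso j K i)

theorem cohbP_of_iso {X : Scheme.{u}} {K L : DCoh.D X} (e : K ≅ L) (h : SGA6.cohbP X K) : SGA6.cohbP X L := by
  obtain ⟨hc, a, b, ha, hb⟩ := h
  haveI := ha
  haveI := hb
  exact ⟨fun i => H10Coh.isCoh_of_iso ((DerivedCategory.homologyFunctor _ i).mapIso e) (hc i), a, b,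
    DerivedCategory.TStructure.t.isGE_of_iso e a, DerivedCategory.TStructure.t.isLE_of_iso e b⟩

theorem cohbP_of_ext_regular (k : Type u) [Field k] (X : Scheme.{u}) [X.Over (Spec (.of k))]
    [IsProper (X ↘ Spec (.of k))] (hreg : ∀ x : X, IsRegularLocalRing (X.presheaf.stalk x))
    (K : DCoh.D X) (hK : DCoh.IsQCohD K)
    (h : ∀ E : DCoh.D X, DCoh.IsPerfect E →
        (∀ i : ℤ, Module.Finite k (E ⟶ (shiftFunctor (DCoh.D X) i).obj K)) ∧
        Set.Finite {i : ℤ | Nontrivial (E ⟶ (shiftFunctor (DCoh.D X) i).obj K)}) :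
    SGA6.cohbP X K := by
  haveI : IsLocallyNoetherian X := LocallyOfFiniteType.isLocallyNoetherian (X ↘ Spec (.of k))
  haveI : CompactSpace X := QuasiCompact.compactSpace_of_compactSpace (X ↘ Spec (.of k))
  haveI : IsNoetherian X := {}
  refine cohbP_of_cover K hK fun x => ?_
  obtain ⟨U, hU, hx, -⟩ := exists_isAffineOpen_mem_and_subset (U := (⊤ : X.Opens)) (x := x) trivial
  refine ⟨U, hU, hx, ?_⟩
  obtain ⟨X', π, hπ, hiso, hproj⟩ := exists_chow (k := k) U hU
  haveI := hπ
  haveI := hiso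
  letI : X'.Over (Spec (CommRingCat.of k)) := ⟨π ≫ (X ↘ Spec (CommRingCat.of k))⟩
  haveI : IsLocallyNoetherian X' := LocallyOfFiniteType.isLocallyNoetherian π
  haveI := hasLpull π
  haveI := QCohD.hasRpush π
  let K' := (DCoh.Lpull π).obj K
  have hK' : SGA6.cohbP X' K' := (S6743.result k X' hproj K' (QCohD.isQCohD_lpull π hK)).2 fun E hE => by
    have hQ := isPerfect_rpush_of_proper hreg π (Dual.isPerfect_ro hE)
    obtain ⟨hf, hb⟩ := h _ (Dual.isPerfect_ro hQ)
    have e : ∀ i : ℤ, Nonempty ((Dual.ro ((DCoh.Rpush π).obj (Dual.ro E)) ⟶ K⟦i⟧) ≃ₗ[k] (E ⟶ K'⟦i⟧)) :=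
      fun i => nonempty_hom_lpull_equiv π rfl hE hQ hK i
    refine ⟨fun i => ?_, hb.subset fun i hi => ?_⟩
    · haveI := hf i
      exact Module.Finite.equiv (e i).some
    · haveI : Nontrivial (E ⟶ K'⟦i⟧) := hi
      exact (e i).some.toEquiv.nontrivial
  let s : (U : Scheme.{u}) ⟶ X' := inv (π ∣_ U) ≫ (π ⁻¹ᵁ U).ι
  have hs : s ≫ π = U.ι := by
    rw [Category.assoc, ← morphismRestrict_ι, IsIso.inv_hom_id_assoc]
  haveI := hasLpull s
  haveI := hasLpull U.ι
  haveI := QCohD.hasRpush s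
  haveI := QCohD.hasRpush U.ι
  obtain ⟨c⟩ := H25FM.nonempty_lpull_comp s π U.ι hs
  exact cohbP_of_iso (((RelTensor.lpullRdIso s).app K').symm ≪≫ c.app K ≪≫ (RelTensor.lpullRdIso U.ι).app K)
    (cohbP_rd s hK')

end Groth.Agent.H02CA.PerfRep
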