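import Groth.Agent.H02CA.PerfRep.DualEquiv
import Groth.Agent.H02CA.PerfRep.Scheme
import Groth.Agent.S6746

/-!
# Corepresentability on the perfect objects of a regular proper scheme
-/

set_option autoImplicit false
set_option linter.style.haveILetI false
set_option backward.isDefEq.respectTransparency false

universe u

open CategoryTheory CategoryTheory.Limits AlgebraicGeometry CategoryTheory.Pretriangulated Opposite

attribute [local instance] HasDerivedCategory.standard

noncomputable section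

namespace Groth.Agent.H02CA.PerfRep

open Groth.Agent.H16Derived Groth.Agent.H16Derived.Dual Groth.Agent.H16Derived.KFlat Groth.Agent.H25DTen

variable {k : Type u} [Field k] {X : Scheme.{u}} [X.Over (Spec (.of k))] [(SGA6.perfP X).IsTriangulated]
  (G : (SGA6.perfP X).FullSubcategory ⥤ ModuleCat.{u + 1} k) [G.Additive] [G.Linear k] [G.IsHomological]

theorem exact_dualP : ∀ T ∈ distTriang (DCoh.D X), ∀ (h₁ : DCoh.IsPerfect T.obj₁)
    (h₂ : DCoh.IsPerfect T.obj₂) (h₃ : DCoh.IsPerfect T.obj₃)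
    (y : (dualP X ⋙ G).obj (op ⟨T.obj₂, h₂⟩)),
    (dualP X ⋙ G).map (ObjectProperty.homMk T.mor₁ : (⟨T.obj₁, h₁⟩ : (SGA6.perfP X).FullSubcategory) ⟶ ⟨T.obj₂, h₂⟩).op y = 0 →
      ∃ z : (dualP X ⋙ G).obj (op ⟨T.obj₃, h₃⟩),
        (dualP X ⋙ G).map (ObjectProperty.homMk T.mor₂ : (⟨T.obj₂, h₂⟩ : (SGA6.perfP X).FullSubcategory) ⟶ ⟨T.obj₃, h₃⟩).op z = y := by
  intro T hT h₁ h₂ h₃ y hy
  obtain ⟨C, j, δ, hd⟩ := distinguished_cocone_triangle₁ (rmap T.mor₁)
  have hC : DCoh.IsPerfect C := Thomason.isPerfect_obj₁ hd (isPerfect_ro h₂) (isPerfect_ro h₁)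
  -- a lift of `j` to the dual of the third vertex
  have hj : j ≫ rmap T.mor₁ = 0 := comp_distTriang_mor_zero₁₂ _ hd
  have hz : ((Dual.T X).obj C).map T.mor₁ ≫ ((Dual.T X).map j).app T.obj₂ ≫ ev T.obj₂ = 0 := by
    rw [← comp_rmap, hj]
    exact (congrArg (· ≫ ev _) (((Dual.T X).flip.obj T.obj₁).map_zero _ _)).trans zero_comp
  obtain ⟨r, hr⟩ := Dev.exists_factor_map (Adjunction.ofIsLeftAdjoint ((Dual.T X).obj C)) _ hT _ hz
  obtain ⟨t, ht⟩ := ev_surjective r
  have htj : t ≫ rmap T.mor₂ = j := ev_injective (by rw [comp_rmap, ht, hr])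
  -- exactness of `G` on the triangle
  let Tf : Triangle (SGA6.perfP X).FullSubcategory :=
    Triangle.mk (ObjectProperty.homMk j : (⟨C, hC⟩ : (SGA6.perfP X).FullSubcategory) ⟶ (dualP X).obj (op ⟨T.obj₂, h₂⟩))
      ((dualP X).map (ObjectProperty.homMk T.mor₁ : (⟨T.obj₁, h₁⟩ : (SGA6.perfP X).FullSubcategory) ⟶ ⟨T.obj₂, h₂⟩).op)
      (ObjectProperty.homMk (δ ≫ ((SGA6.perfP X).ι.commShiftIso (1 : ℤ)).inv.app ⟨C, hC⟩))
  have hTf : Tf ∈ distTriang _ := by
    refine isomorphic_distinguished _ hd _ (Triangle.isoMk _ _ (Iso.refl _) (Iso.refl _) (Iso.refl _) ?_ ?_ ?_)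
    · exact (Category.comp_id _).trans (Category.id_comp _).symm
    · exact (Category.comp_id _).trans (Category.id_comp _).symm
    · simp [Tf]
      exact (Category.assoc _ _ _).trans ((congrArg (δ ≫ ·) (Iso.inv_hom_id_app ((SGA6.perfP X).ι.commShiftIso (1 : ℤ)) (⟨C, hC⟩ : (SGA6.perfP X).FullSubcategory))).trans (Category.comp_id δ))
  have hex := (ShortComplex.moduleCat_exact_iff _).1 (G.map_distinguished_exact Tf hTf)
  obtain ⟨c, hc⟩ := hex y hy
  refine ⟨G.map (ObjectProperty.homMk t : (⟨C, hC⟩ : (SGA6.perfP X).FullSubcategory) ⟶ (dualP X).obj (op ⟨T.obj₃, h₃⟩)) c, ?_⟩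
  refine ((ModuleCat.comp_apply _ _ _).symm.trans ?_).trans hc
  rw [Functor.comp_map, ← G.map_comp]
  exact congrArg (fun m => (G.map m) c) (ObjectProperty.hom_ext _ htj)

theorem exists_corep [IsProper (X ↘ Spec (.of k))] (hreg : Models.IsRegularScheme X)
    (hfin : ∀ E : (SGA6.perfP X).FullSubcategory,
      (∀ n : ℤ, Module.Finite k (G.obj ((shiftFunctor ((SGA6.perfP X).FullSubcategory) n).obj E))) ∧
      Set.Finite {n : ℤ | Nontrivial (G.obj ((shiftFunctor ((SGA6.perfP X).FullSubcategory) n).obj E))}) :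
    ∃ K : (SGA6.perfP X).FullSubcategory, Nonempty (G ≅ (linearCoyoneda k ((SGA6.perfP X).FullSubcategory)).obj (op K)) := by
  have hlin : ∀ (A B : (SGA6.perfP X).FullSubcategory) (r : k) (f : A ⟶ B),
      (dualP X ⋙ G).map (r • f).op = r • (dualP X ⋙ G).map f.op := fun A B r f => by
    have h : (dualP X).map (r • f).op = r • (dualP X).map f.op := ObjectProperty.hom_ext _ (rmap_smul r f.hom)
    rw [Functor.comp_map, Functor.comp_map, h, G.map_smul]
  have hfin' : ∀ E : (SGA6.perfP X).FullSubcategory,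
      (∀ n : ℤ, Module.Finite k ((dualP X ⋙ G).obj (op ((shiftFunctor ((SGA6.perfP X).FullSubcategory) n).obj E)))) ∧
      Set.Finite {n : ℤ | Nontrivial ((dualP X ⋙ G).obj (op ((shiftFunctor ((SGA6.perfP X).FullSubcategory) n).obj E)))} := by
    intro E
    let E' := (dualP X).obj (op E)
    have e : ∀ n : ℤ, Nonempty ((dualP X).obj (op ((shiftFunctor ((SGA6.perfP X).FullSubcategory) n).obj E)) ≅
        (shiftFunctor ((SGA6.perfP X).FullSubcategory) (-n)).obj E') := fun n => by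
      obtain ⟨a⟩ := nonempty_ro_shift E.obj n
      exact ⟨(SGA6.perfP X).isoMk (roIso (((SGA6.perfP X).ι.commShiftIso n).app E).symm ≪≫ a ≪≫
        (((SGA6.perfP X).ι.commShiftIso (-n)).app E').symm)⟩
    refine ⟨fun n => ?_, ((hfin E').2.preimage neg_injective.injOn).subset fun n hn => ?_⟩
    · haveI := (hfin E').1 (-n)
      exact Module.Finite.equiv (G.mapIso (e n).some).symm.toLinearEquiv
    · exact ((G.mapIso (e n).some).toLinearEquiv.toEquiv.nontrivial_congr).1 hn
  obtain ⟨N, hN, ⟨ψ⟩⟩ := S6746.result k X hreg (dualP X ⋙ G) hlin (exact_dualP G) hfin'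
  let K : (SGA6.perfP X).FullSubcategory := (dualP X).obj (op ⟨N, hN⟩)
  -- dualizing the representation
  let l : ∀ E : (SGA6.perfP X).FullSubcategory, (ro E.obj ⟶ N) →ₗ[k] (K ⟶ E) := fun E =>
    { toFun := fun v => ObjectProperty.homMk (rmap v ≫ haveI := isIso_w E.property; inv (w E.obj))
      map_add' := fun a b => ObjectProperty.hom_ext _ ((congrArg (· ≫ _) (rmap_add a b)).trans (Preadditive.add_comp _ _ _ _ _ _))
      map_smul' := fun r a => ObjectProperty.hom_ext _ ((congrArg (· ≫ _) (rmap_smul r a)).trans (Linear.smul_comp _ _ _ _ _ _)) }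
  have hl : ∀ E, Function.Bijective (l E) := fun E => by
    haveI := isIso_w E.property
    refine ⟨fun a b h => (bijective_rmap (isPerfect_ro E.property) hN).1 ?_, fun g => ?_⟩
    · exact (cancel_mono (inv (w E.obj))).1 (congrArg (fun z => z.hom) h)
    · obtain ⟨v, hv⟩ := (bijective_rmap (isPerfect_ro E.property) hN).2 (g.hom ≫ w E.obj)
      refine ⟨v, ObjectProperty.hom_ext _ ?_⟩
      simp only at hv
      simp [l, hv]
  refine ⟨K, ⟨(Functor.leftUnitor G).symm ≪≫ Functor.isoWhiskerRight (bidualP X) G ≪≫ Functor.associator _ _ _ ≪≫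
    Functor.isoWhiskerLeft (dualP X).rightOp ψ ≪≫
      NatIso.ofComponents (fun E => (LinearEquiv.ofBijective (l E) (hl E)).toModuleIso) fun {E E'} f => ?_⟩⟩
  ext v
  refine ObjectProperty.hom_ext _ ?_
  haveI := isIso_w E.property
  haveI := isIso_w E'.property
  show rmap (rmap f.hom ≫ v) ≫ inv (w E'.obj) = (rmap v ≫ inv (w E.obj)) ≫ f.hom
  rw [rmap_comp, Category.assoc, Category.assoc]
  refine congrArg (_ ≫ ·) ?_
  rw [← cancel_epi (w E.obj), ← reassoc_of% (w_naturality f.hom)]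
  simp

end Groth.Agent.H02CA.PerfRep
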