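import Groth.Agent.S6746
import Groth.Agent.S6747
import Groth.Agent.S6742
import Groth.Agent.H16Derived.FMKWit.Main
import Mathlib.CategoryTheory.Adjunction.PartialAdjoint
import Mathlib.CategoryTheory.Triangulated.Yoneda

/-!
# Adjoints of exact functors on perfect objects
-/

set_option autoImplicit false
set_option linter.style.haveILetI false
set_option backward.isDefEq.respectTransparency false

universe u

open CategoryTheory CategoryTheory.Limits AlgebraicGeometry CategoryTheory.Pretriangulated Opposite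

attribute [local instance] HasDerivedCategory.standard

noncomputable section

namespace Groth.Agent.H02CA.PerfRep

open Groth.Agent.H16Derived

variable {k : Type u} [Field k] {X Y : Scheme.{u}} [X.Over (Spec (.of k))] [Y.Over (Spec (.of k))]

theorem cohbP_of_isPerfect [CompactSpace Y] [IsLocallyNoetherian Y] {B : DCoh.D Y} (hB : DCoh.IsPerfect B) :
    SGA6.cohbP Y B := by
  obtain ⟨a, b, ha, hb⟩ := FMKWit.exists_bounds_of_isPerfect hB
  exact ⟨FMKWit.isCohD_of_isPerfect hB, a, b, ha, hb⟩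

theorem finite_ext_full [IsProper (Y ↘ Spec (.of k))] [(SGA6.perfP Y).IsTriangulated]
    (A B : (SGA6.perfP Y).FullSubcategory) :
    (∀ n : ℤ, Module.Finite k (A ⟶ (shiftFunctor ((SGA6.perfP Y).FullSubcategory) n).obj B)) ∧
      Set.Finite {n : ℤ | Nontrivial (A ⟶ (shiftFunctor ((SGA6.perfP Y).FullSubcategory) n).obj B)} := by
  haveI : IsLocallyNoetherian Y := LocallyOfFiniteType.isLocallyNoetherian (Y ↘ Spec (.of k))
  haveI : CompactSpace Y := QuasiCompact.compactSpace_of_compactSpace (Y ↘ Spec (.of k))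
  obtain ⟨hf, hb⟩ := S6742.result k Y B.obj (cohbP_of_isPerfect B.property) A.obj A.property
  let e : ∀ n : ℤ, (A ⟶ (shiftFunctor ((SGA6.perfP Y).FullSubcategory) n).obj B) ≃ₗ[k] (A.obj ⟶ B.obj⟦n⟧) := fun n =>
    (LinearEquiv.ofBijective ((SGA6.perfP Y).ι.mapLinearMap k)
      ⟨fun a b h => (SGA6.perfP Y).ι.map_injective h, fun g => ⟨ObjectProperty.homMk g, rfl⟩⟩).trans
      (Linear.homCongr k (Iso.refl _) (((SGA6.perfP Y).ι.commShiftIso n).app B))
  refine ⟨fun n => ?_, hb.subset fun n hn => ((e n).toEquiv.nontrivial_congr).1 hn⟩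
  haveI := hf n
  exact Module.Finite.equiv (e n).symm

variable (k) [IsProper (X ↘ Spec (.of k))] [IsProper (Y ↘ Spec (.of k))]
  [(SGA6.perfP X).IsTriangulated] [(SGA6.perfP Y).IsTriangulated]
  (F : (SGA6.perfP X).FullSubcategory ⥤ (SGA6.perfP Y).FullSubcategory) [F.Additive] [F.Linear k]
  [F.CommShift ℤ] [F.IsTriangulated]

include k in
theorem isRightAdjoint_of_regular (hreg : Models.IsRegularScheme X) : F.IsRightAdjoint := by
  apply Functor.isRightAdjoint_of_leftAdjointObjIsDefined_eq_top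
  ext B
  simp only [Pi.top_apply, Prop.top_eq_true, iff_true]
  rw [Functor.leftAdjointObjIsDefined_iff]
  let G := F ⋙ (linearCoyoneda k ((SGA6.perfP Y).FullSubcategory)).obj (op B)
  haveI : ((linearCoyoneda k ((SGA6.perfP Y).FullSubcategory)).obj (op B)).IsHomological :=
    ⟨fun T hT => (ShortComplex.moduleCat_exact_iff _).2 fun x hx =>
      let ⟨y, hy⟩ := Triangle.coyoneda_exact₂ T hT x hx
      ⟨y, hy.symm⟩⟩
  haveI : ((linearCoyoneda k ((SGA6.perfP Y).FullSubcategory)).obj (op B)).Linear k :=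
    { map_smul := fun {E E'} (f : E ⟶ E') (r : k) => by
        refine ModuleCat.hom_ext (LinearMap.ext fun g => ?_)
        exact Linear.comp_smul (R := k) (C := (SGA6.perfP Y).FullSubcategory) _ _ _ g r f }
  haveI : G.Additive := inferInstance
  haveI : G.Linear k := inferInstance
  have hfin : ∀ E : (SGA6.perfP X).FullSubcategory,
      (∀ n : ℤ, Module.Finite k (G.obj ((shiftFunctor ((SGA6.perfP X).FullSubcategory) n).obj E))) ∧
      Set.Finite {n : ℤ | Nontrivial (G.obj ((shiftFunctor ((SGA6.perfP X).FullSubcategory) n).obj E))} := by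
    intro E
    obtain ⟨hf, hb⟩ := finite_ext_full (k := k) B (F.obj E)
    let e : ∀ n : ℤ, G.obj ((shiftFunctor ((SGA6.perfP X).FullSubcategory) n).obj E) ≃ₗ[k]
        (B ⟶ (shiftFunctor ((SGA6.perfP Y).FullSubcategory) n).obj (F.obj E)) := fun n =>
      Linear.homCongr k (Iso.refl B) ((F.commShiftIso n).app E)
    refine ⟨fun n => ?_, hb.subset fun n hn => ((e n).toEquiv.nontrivial_congr).1 hn⟩
    haveI := hf n
    exact Module.Finite.equiv (e n).symm
  obtain ⟨K, ⟨φ⟩⟩ := S6747.result k X hreg G hfin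
  exact Functor.CorepresentableBy.isCorepresentable (X := K)
    { homEquiv := fun {Z} => (φ.app Z).toLinearEquiv.symm.toEquiv
      homEquiv_comp := fun {Z Z'} g f => congrArg (fun t => t f) (φ.inv.naturality g) }

include k in
theorem isLeftAdjoint_of_regular (hreg : Models.IsRegularScheme X) : F.IsLeftAdjoint := by
  apply Functor.isLeftAdjoint_of_rightAdjointObjIsDefined_eq_top
  ext B
  simp only [Pi.top_apply, Prop.top_eq_true, iff_true]
  rw [Functor.rightAdjointObjIsDefined_iff]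
  let H : ((SGA6.perfP X).FullSubcategory)ᵒᵖ ⥤ ModuleCat.{u + 1} k :=
    F.op ⋙ (linearYoneda k ((SGA6.perfP Y).FullSubcategory)).obj B
  haveI : ((linearYoneda k ((SGA6.perfP Y).FullSubcategory)).obj B).Additive :=
    { map_add := fun {_ _ f g} => by ext v; exact Preadditive.add_comp _ _ _ f.unop g.unop v }
  haveI : H.Additive := inferInstance
  have hlin : ∀ (A A' : (SGA6.perfP X).FullSubcategory) (r : k) (f : A ⟶ A'), H.map (r • f).op = r • H.map f.op :=
    fun A A' r f => by
      ext v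
      change F.map (r • f) ≫ v = r • (F.map f ≫ v)
      rw [F.map_smul, Linear.smul_comp]
  have hcoh : ∀ T ∈ distTriang (DCoh.D X), ∀ (h₁ : DCoh.IsPerfect T.obj₁)
      (h₂ : DCoh.IsPerfect T.obj₂) (h₃ : DCoh.IsPerfect T.obj₃)
      (y : H.obj (op ⟨T.obj₂, h₂⟩)),
      H.map (ObjectProperty.homMk T.mor₁ : (⟨T.obj₁, h₁⟩ : (SGA6.perfP X).FullSubcategory) ⟶ ⟨T.obj₂, h₂⟩).op y = 0 →
        ∃ z : H.obj (op ⟨T.obj₃, h₃⟩),
          H.map (ObjectProperty.homMk T.mor₂ : (⟨T.obj₂, h₂⟩ : (SGA6.perfP X).FullSubcategory) ⟶ ⟨T.obj₃, h₃⟩).op z = y := by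
    intro T hT h₁ h₂ h₃ y hy
    let Tf : Triangle (SGA6.perfP X).FullSubcategory :=
      Triangle.mk (ObjectProperty.homMk T.mor₁ : (⟨T.obj₁, h₁⟩ : (SGA6.perfP X).FullSubcategory) ⟶ ⟨T.obj₂, h₂⟩)
        (ObjectProperty.homMk T.mor₂ : (⟨T.obj₂, h₂⟩ : (SGA6.perfP X).FullSubcategory) ⟶ ⟨T.obj₃, h₃⟩)
        (ObjectProperty.homMk (T.mor₃ ≫ ((SGA6.perfP X).ι.commShiftIso (1 : ℤ)).inv.app ⟨T.obj₁, h₁⟩))
    have hTf : Tf ∈ distTriang _ := by
      refine isomorphic_distinguished _ hT _ (Triangle.isoMk _ _ (Iso.refl _) (Iso.refl _) (Iso.refl _) ?_ ?_ ?_)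
      · exact (Category.comp_id _).trans (Category.id_comp _).symm
      · exact (Category.comp_id _).trans (Category.id_comp _).symm
      · simp [Tf]
        exact (Category.assoc _ _ _).trans ((congrArg (T.mor₃ ≫ ·) (Iso.inv_hom_id_app
          ((SGA6.perfP X).ι.commShiftIso (1 : ℤ)) (⟨T.obj₁, h₁⟩ : (SGA6.perfP X).FullSubcategory))).trans
            (Category.comp_id _))
    obtain ⟨z, hz⟩ := Triangle.yoneda_exact₂ _ (F.map_distinguished Tf hTf) y hy
    exact ⟨z, hz.symm⟩
  have hfin : ∀ E : (SGA6.perfP X).FullSubcategory,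
      (∀ n : ℤ, Module.Finite k (H.obj (op ((shiftFunctor ((SGA6.perfP X).FullSubcategory) n).obj E)))) ∧
      Set.Finite {n : ℤ | Nontrivial (H.obj (op ((shiftFunctor ((SGA6.perfP X).FullSubcategory) n).obj E)))} := by
    intro E
    obtain ⟨hf, hb⟩ := finite_ext_full (k := k) (F.obj E) B
    let c := fun n : ℤ => (shiftFunctorCompIsoId ((SGA6.perfP Y).FullSubcategory) (-n) n (neg_add_cancel n)).app B
    let ψ : ∀ n : ℤ, (F.obj E ⟶ (shiftFunctor ((SGA6.perfP Y).FullSubcategory) (-n)).obj B) ≃ₗ[k]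
        ((shiftFunctor ((SGA6.perfP Y).FullSubcategory) n).obj (F.obj E) ⟶ B) := fun n =>
      LinearEquiv.ofBijective
        { toFun := fun g => (shiftFunctor ((SGA6.perfP Y).FullSubcategory) n).map g ≫ (c n).hom
          map_add' := fun f g => by simp
          map_smul' := fun r g => by simp }
        ⟨fun f g h => (shiftFunctor ((SGA6.perfP Y).FullSubcategory) n).map_injective ((cancel_mono (c n).hom).1 h),
          fun g => ⟨(shiftFunctor ((SGA6.perfP Y).FullSubcategory) n).preimage (g ≫ (c n).inv), by simp⟩⟩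
    let e : ∀ n : ℤ, (F.obj E ⟶ (shiftFunctor ((SGA6.perfP Y).FullSubcategory) (-n)).obj B) ≃ₗ[k]
        H.obj (op ((shiftFunctor ((SGA6.perfP X).FullSubcategory) n).obj E)) := fun n =>
      (ψ n).trans (Linear.homCongr k ((F.commShiftIso n).app E).symm (Iso.refl B))
    refine ⟨fun n => ?_, (hb.preimage neg_injective.injOn).subset fun n hn => ((e n).toEquiv.nontrivial_congr).2 hn⟩
    haveI := hf (-n)
    exact Module.Finite.equiv (e n)
  obtain ⟨K, hK, ⟨φ⟩⟩ := S6746.result k X hreg H hlin hcoh hfin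
  exact Functor.RepresentableBy.isRepresentable (Y := ⟨K, hK⟩)
    { homEquiv := fun {Z} =>
        (((SGA6.perfP X).fullyFaithfulι.homEquiv (X := Z) (Y := ⟨K, hK⟩))).trans
          (φ.app (op Z)).toLinearEquiv.symm.toEquiv
      homEquiv_comp := fun {Z Z'} g f => congrArg (fun t => t f.hom) (φ.inv.naturality g.op) }

end Groth.Agent.H02CA.PerfRep
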