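import Groth.Agent.H02CA.StrongGen.Main
import Groth.Agent.H02CA.PnDetect.Proj
import Groth.Agent.H16Derived.Dual.BiDual
import Groth.Agent.H16Derived.RelTensor.Local
import Groth.Agent.H16Derived.RelTensor.Chart
import Groth.Agent.H11Ample.RelQuasiAffine
import Groth.Agent.H16Derived.Thomason.Bounded
import Groth.Agent.H16Derived.Thomason.IsoTransport
import Groth.Agent.H4RepDual.PointScheme
import Groth.Agent.H25FM.Calc
import Groth.Agent.H8Props.AdmBlow.RefinedChow
import Groth.Agent.LeadResProp.Rel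
import Groth.Agent.H11Proj.ProperQProj
import Groth.Agent.H29Blow.Basic
import Groth.Agent.H7Flat.Flatten.Birat

/-!
# Bounded coherent objects on a regular proper scheme are detected by perfect objects
-/

set_option autoImplicit false
set_option linter.style.haveILetI false
set_option backward.isDefEq.respectTransparency false

universe u

open CategoryTheory CategoryTheory.Limits AlgebraicGeometry CategoryTheory.Pretriangulated

attribute [local instance] HasDerivedCategory.standard

noncomputable section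

namespace Groth.Agent.H02CA.PerfRep

open Groth.Agent.H16Derived Groth.Agent.H16Derived.KFlat Groth.Agent.H16Derived.KFlat.Stalk
open Groth.Agent.H16Derived.Dual

variable {k : Type u} [Field k] {X X' : Scheme.{u}} [X.Over (Spec (.of k))] [X'.Over (Spec (.of k))]

/-- The pulled back object: its maps from perfect objects are those of the original one from perfect objects. -/
theorem nonempty_hom_lpull_equiv (π : X' ⟶ X) [QuasiCompact π] [QuasiSeparated π] [DCoh.HasLpull π] [DCoh.HasRpush π]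
    (hπ : π ≫ (X ↘ Spec (.of k)) = X' ↘ Spec (.of k))
    {E : DCoh.D X'} (hE : DCoh.IsPerfect E) (hQ : DCoh.IsPerfect ((DCoh.Rpush π).obj (ro E)))
    {K : DCoh.D X} (hK : DCoh.IsQCohD K) (i : ℤ) :
    Nonempty ((ro ((DCoh.Rpush π).obj (ro E)) ⟶ K⟦i⟧) ≃ₗ[k] (E ⟶ ((DCoh.Lpull π).obj K)⟦i⟧)) := by
  letI := lpullCommShift π
  let Q := (DCoh.Rpush π).obj (ro E)
  let K' := K⟦i⟧
  have hK' : DCoh.IsQCohD K' := QCohD.HomVanish.isQCohD_shift hK i
  have hE' : DCoh.IsPerfect (ro E) := isPerfect_ro hE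
  haveI := isIso_w hQ
  -- over `X`
  let eX : (ro Q ⟶ K') ≃ₗ[k] (one X ⟶ ((T X).obj Q).obj K') :=
    (ExtFin.homLin k (ro Q) K').symm.trans (Linear.homCongr k (Iso.refl _)
      ((θIso (isPerfect_ro hQ) K').symm ≪≫ ((T X).obj K').mapIso (asIso (w Q)).symm ≪≫ σ K' Q))
  -- over `X'`
  let M := ((DCoh.Lpull π).obj K)⟦i⟧
  let eM : (DCoh.Lpull π).obj K' ≅ M := ((DCoh.Lpull π).commShiftIso i).app K
  let eX' : (one X' ⟶ ((T X').obj (ro E)).obj ((DCoh.Lpull π).obj K')) ≃ₗ[k] (E ⟶ M) :=
    (Linear.homCongr k (Iso.refl _)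
      (((T X').obj (ro E)).mapIso eM ≪≫ σ (ro E) M ≪≫ θIso hE M)).trans (ExtFin.homLin k E M)
  -- adjunction
  obtain ⟨p⟩ := StrongGen.nonempty_projection π (Dual.isQCohD_of_isPerfect hE') hK'
  obtain ⟨l⟩ : Nonempty ((DCoh.Lpull π).obj (DCoh.inD X (Coh.structureModule X)) ≅
      DCoh.inD X' (Coh.structureModule X')) := by
    obtain ⟨a⟩ := RelTensor.nonempty_lpull_one π 0
    exact ⟨(DCoh.Lpull π).mapIso ((shiftFunctorZero (DCoh.D X) ℤ).app _).symm ≪≫ a ≪≫
      (shiftFunctorZero (DCoh.D X') ℤ).app _⟩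
  haveI := lpull_isTriangulated π
  haveI := (lpullRpushAdj π).right_adjoint_additive
  let a := PnDetect.adjLinEquiv (R := k) (lpullRpushAdj π) (DCoh.inD X (Coh.structureModule X))
    (PnDetect.lpull_map_smul_inD π hπ (H22Alg.PnVan.finLocFree_of_inv (H22Alg.PnDeg0.isInvertible_structure X)))
    (((T X').obj (ro E)).obj ((DCoh.Lpull π).obj K'))
  exact ⟨(((eX.trans (Linear.homCongr k (oneIso (X := X)).symm p.symm)).trans a.symm).trans
    (Linear.homCongr k (l ≪≫ oneIso (X := X')) (Iso.refl _))).trans eX'⟩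

omit [X.Over (Spec (.of k))] in
/-- Bounded coherent is local on a quasi-compact locally Noetherian scheme. -/
theorem cohbP_of_cover [IsLocallyNoetherian X] [CompactSpace X] (K : DCoh.D X) (hK : DCoh.IsQCohD K)
    (h : ∀ x : X, ∃ U : X.Opens, IsAffineOpen U ∧ x ∈ U ∧ SGA6.cohbP (U : Scheme.{u}) ((rd U.ι).obj K)) :
    SGA6.cohbP X K := by
  classical
  choose U hU hxU hcoh a b ha hb using h
  obtain ⟨t, ht⟩ := CompactSpace.elim_nhds_subcover (fun x : X => (U x : Set X))
    (fun x => (U x).isOpen.mem_nhds (hxU x))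
  obtain ⟨lo, hlo⟩ := (t.finite_toSet.image a).bddBelow
  obtain ⟨hi, hhi⟩ := (t.finite_toSet.image b).bddAbove
  have key : ∀ (m : ℤ), (m < lo ∨ hi < m) → IsZero (DCoh.HD K m) := fun m hm => by
    refine (Thomason.isZero_hd_iff K m).2 (Set.eq_empty_iff_forall_notMem.2 fun y hy => ?_)
    obtain ⟨z, hz, hyz⟩ := Set.mem_iUnion₂.1 (ht.ge (Set.mem_univ y))
    have h1 := (Thomason.mem_support_rd (U z).ι K m ⟨y, hyz⟩).2 hy
    have h2 : IsZero (DCoh.HD ((rd (U z).ι).obj K) m) := by
      haveI := ha z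
      haveI := hb z
      rcases hm with hm | hm
      · exact DerivedCategory.isZero_of_isGE _ (a z) m (lt_of_lt_of_le hm (hlo ⟨z, hz, rfl⟩))
      · exact DerivedCategory.isZero_of_isLE _ (b z) m (lt_of_le_of_lt (hhi ⟨z, hz, rfl⟩) hm)
    rw [(Thomason.isZero_hd_iff _ m).1 h2] at h1
    exact h1
  refine ⟨H4RepDual.isCohD_of_charts hK fun x => ?_, lo, hi,
    (DerivedCategory.isGE_iff _ _).2 fun m hm => key m (Or.inl hm),
    (DerivedCategory.isLE_iff _ _).2 fun m hm => key m (Or.inr hm)⟩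
  refine ⟨Γ(X, U x), inferInstance, (hU x).fromSpec, inferInstance, ?_, fun i => ?_⟩
  · rw [(hU x).opensRange_fromSpec]; exact hxU x
  · have h1 := H10Coh.isCoh_restrict (hU x).isoSpec.inv _
      (H10Coh.isCoh_of_iso (homologyRdIso (U x).ι K i) (hcoh x i))
    exact H10Coh.isCoh_of_iso
      ((Scheme.Modules.restrictFunctorComp (hU x).isoSpec.inv (U x).ι).symm.app (DCoh.HD K i) ≪≫
        (Scheme.Modules.restrictFunctorCongr (IsAffineOpen.isoSpec_inv_ι (hU x))).app (DCoh.HD K i)) h1

theorem isAmple_structure_spec (k : Type u) [Field k] :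
    CohB1.IsAmple (Coh.structureModule (Spec (CommRingCat.of k))) := by
  exact Groth.Agent.H11Ample.isQuasiAffine_iff_isAmple.1 inferInstance

/-- Chow's lemma, without moving a given affine open. -/
theorem exists_chow [IsProper (X ↘ Spec (.of k))] (U : X.Opens) (hU : IsAffineOpen U) :
    ∃ (X' : Scheme.{u}) (π : X' ⟶ X), IsProper π ∧ IsIso (π ∣_ U) ∧
      RelProj.IsHProjective (π ≫ (X ↘ Spec (.of k))) := by
  let f := X ↘ Spec (CommRingCat.of k)
  haveI : IsAffine (U : Scheme.{u}) := hU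
  have hq : RelProj.IsQuasiProjective (U.ι ≫ f) :=
    ⟨inferInstance, inferInstance, Coh.structureModule _, LeadResProp.isRelAmple_structure (f := U.ι ≫ f)⟩
  obtain ⟨I, X', P, q, j, g, hb, hI, hg, hj, hjd, hjg⟩ :=
    H8Props.AdmBlow.exists_projective_blowUp f U hU.isCompact hq
  haveI := hj
  haveI := hjd
  haveI := H7Flat.Flatten.isProper_blowUp hI.1 hb
  haveI := H11Proj.isProper_of_isProjective hg
  haveI : IsProper (j ≫ g) := hjg ▸ inferInstance
  haveI : IsProper j := IsProper.of_comp j g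
  haveI : IsClosedImmersion j := IsClosedImmersion.of_isPreimmersion j j.isClosedMap.isClosed_range
  refine ⟨X', q, inferInstance, H29Blow.isIso_morphismRestrict hb U fun x hx hs => hI.2.ne_of_mem hs hx rfl, ?_⟩
  rw [← hjg]
  exact (H11Proj.isProjective_iff_isHProjective (j ≫ g) ⟨Coh.structureModule _, isAmple_structure_spec k⟩).1
    (H8Props.AdmBlow.isProjective_comp_closedImmersion j hg)

end Groth.Agent.H02CA.PerfRep
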