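import Groth.Agent.H16Derived.Dual.BiDual
import Groth.Agent.H16Derived.ExtFin.Linear
import Groth.Agent.H25FM.ProjT
import Groth.Prelude.Def_SGA6
import Mathlib.CategoryTheory.Linear.Yoneda

/-!
# Duality on perfect objects
-/

set_option autoImplicit false
set_option linter.style.haveILetI false
set_option backward.isDefEq.respectTransparency false

universe u

open CategoryTheory CategoryTheory.Limits AlgebraicGeometry CategoryTheory.Pretriangulated Opposite

attribute [local instance] HasDerivedCategory.standard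

noncomputable section

namespace Groth.Agent.H02CA.PerfRep

open Groth.Agent.H16Derived Groth.Agent.H16Derived.Dual

variable {X : Scheme.{u}}

lemma ev_w (k : DCoh.D X) : ((T X).map (w k)).app (ro k) ≫ ev (ro k) = zev k := by
  refine ((adjR (ro k)).homEquiv_counit _ _ _).symm.trans ?_
  exact ((adjR (ro k)).homEquiv _ _).symm_apply_apply _

/-- Biduality is natural. -/
lemma w_naturality {k k' : DCoh.D X} (φ : k ⟶ k') : φ ≫ w k' = w k ≫ rmap (rmap φ) := by
  apply ev_injective
  rw [comp_rmap, ev_w, Functor.map_comp, NatTrans.comp_app, Category.assoc, ev_w, zev_naturality]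

lemma rmap_add {k k' : DCoh.D X} (φ ψ : k ⟶ k') : rmap (φ + ψ) = rmap φ + rmap ψ := by
  apply ev_injective
  rw [rmap_ev]
  have h : ((T X).map (rmap φ + rmap ψ)).app k = ((T X).map (rmap φ)).app k + ((T X).map (rmap ψ)).app k :=
    ((T X).flip.obj k).map_add
  erw [h]
  rw [Functor.map_add, Preadditive.add_comp, Preadditive.add_comp, rmap_ev, rmap_ev]

lemma bijective_rmap {k k' : DCoh.D X} (hk : DCoh.IsPerfect k) (hk' : DCoh.IsPerfect k') :
    Function.Bijective fun φ : k ⟶ k' => rmap φ := by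
  have inj : ∀ {a b : DCoh.D X}, DCoh.IsPerfect b → Function.Injective fun φ : a ⟶ b => rmap φ := by
    intro a b hb φ ψ h
    haveI := isIso_w hb
    simp only at h
    rw [← cancel_mono (w b), w_naturality, w_naturality, h]
  haveI := isIso_w hk
  haveI := isIso_w hk'
  refine ⟨inj hk', fun ψ => ⟨w k ≫ rmap ψ ≫ inv (w k'), inj (isPerfect_ro hk) ?_⟩⟩
  simp only
  rw [← cancel_epi (w k), ← w_naturality]
  simp

variable {k : Type u} [CommRing k] [X.Over (Spec (CommRingCat.of k))]

lemma rmap_smul {A B : DCoh.D X} (a : k) (φ : A ⟶ B) : rmap (a • φ) = a • rmap φ := by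
  apply ev_injective
  rw [rmap_ev]
  have h2 : ((T X).obj (ro B)).map (a • φ) = a • ((T X).obj (ro B)).map φ := by
    rw [← cancel_mono (σ (ro B) B).hom, σ_naturality_right, ExtFin.T_map_smul', Linear.comp_smul,
      Linear.smul_comp, σ_naturality_right]
  rw [h2]
  erw [ExtFin.T_map_smul' k (rmap φ) A a]
  rw [Linear.smul_comp, Linear.smul_comp, rmap_ev]

omit [X.Over (Spec (CommRingCat.of k))] in
/-- The dual of a shift. -/
theorem nonempty_ro_shift (A : DCoh.D X) (n : ℤ) : Nonempty (ro (A⟦n⟧) ≅ (ro A)⟦-n⟧) := by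
  let O := DCoh.inD X (Coh.structureModule X)
  obtain ⟨e⟩ := H25FM.nonempty_T_shift_structure X n
  obtain ⟨e'⟩ := H25FM.nonempty_T_shift_structure X (-n)
  let c : ∀ m : ℤ, o X m ≅ O⟦m⟧ := fun m =>
    (DerivedCategory.Q.commShiftIso m).app _ ≪≫ (shiftFunctor _ m).mapIso (oneIso (X := X)).symm
  let r : ro (O⟦n⟧) ≅ O⟦-n⟧ := roIso (c n) ≪≫ roOIso n ≪≫ c (-n)
  exact ⟨roIso (e.app A) ≪≫ (curryIso (O⟦n⟧) A (one X)).symm ≪≫
    (θIso (KFlat.Stalk.isPerfect_of_iso (c n) (isPerfect_o n)) (ro A)).symm ≪≫ σ _ _ ≪≫ ((T X).mapIso r).app (ro A) ≪≫ e'.app (ro A)⟩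

variable (X)

/-- Duality on the perfect objects. -/
def dualP : (SGA6.perfP X).FullSubcategoryᵒᵖ ⥤ (SGA6.perfP X).FullSubcategory where
  obj E := ⟨ro E.unop.obj, isPerfect_ro E.unop.property⟩
  map f := ObjectProperty.homMk (rmap f.unop.hom)
  map_id E := ObjectProperty.hom_ext _ (rmap_id _)
  map_comp f g := ObjectProperty.hom_ext _ (rmap_comp _ _)

instance : (dualP X).Additive where
  map_add {_ _ f g} := ObjectProperty.hom_ext _ (rmap_add f.unop.hom g.unop.hom)

/-- Biduality on the perfect objects. -/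
def bidualP : 𝟭 (SGA6.perfP X).FullSubcategory ≅ (dualP X).rightOp ⋙ dualP X :=
  NatIso.ofComponents
    (fun E => haveI := isIso_w E.property; (SGA6.perfP X).isoMk (asIso (w E.obj)))
    (fun f => ObjectProperty.hom_ext _ (w_naturality f.hom))

end Groth.Agent.H02CA.PerfRep
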