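import Groth.Agent.LeadBrown.Functor
import Mathlib.CategoryTheory.Linear.Yoneda
import Mathlib.Algebra.Category.ModuleCat.Basic
import Mathlib.RingTheory.Artinian.Module
import Mathlib.LinearAlgebra.FiniteDimensional.Basic
import Mathlib.RingTheory.Finiteness.Basic
import Mathlib.Order.Zorn

/-!
# Natural families on a small subcategory of a triangulated category
-/

set_option autoImplicit false
set_option linter.style.haveILetI false
set_option linter.unusedSectionVars false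

universe v w u

open CategoryTheory CategoryTheory.Limits CategoryTheory.Pretriangulated Opposite
open Groth.Agent.H16Derived.QCohD

namespace Groth.Agent.H02CA.PerfRep

variable {k : Type v} [Field k]
variable {D : Type u} [Category.{w} D] [Preadditive D] [HasZeroObject D] [HasShift D ℤ]
  [∀ n : ℤ, (shiftFunctor D n).Additive] [Pretriangulated D]

lemma mem_chain_sSup {α : Type*} {A : α → Type*} [∀ a, AddGroup (A a)]
    {C : Set (∀ a, AddSubgroup (A a))} (hne : C.Nonempty) (hch : IsChain (· ≤ ·) C) (j : α)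
    (z : A j) : z ∈ sSup ((fun Γ => Γ j) '' C) ↔ ∃ Γ ∈ C, z ∈ Γ j := by
  have dir : DirectedOn (· ≤ ·) ((fun Γ : ∀ a, AddSubgroup (A a) => Γ j) '' C) := by
    rintro _ ⟨a, ha, rfl⟩ _ ⟨b, hb, rfl⟩
    rcases hch.total ha hb with h | h
    · exact ⟨_, ⟨b, hb, rfl⟩, h j, le_rfl⟩
    · exact ⟨_, ⟨a, ha, rfl⟩, le_rfl, h j⟩
  rw [AddSubgroup.mem_sSup_of_directedOn (hne.image _) dir]
  simp

/-- Closed under cocones and biproducts. -/
structure Closed (C : ObjectProperty D) : Prop where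
  cocone : ∀ T : Triangle D, T ∈ distTriang D → C T.obj₂ → C T.obj₃ → C T.obj₁
  biprod : ∀ {A B : D}, C A → C B → C (A ⊞ B)

variable {C : ObjectProperty D}

/-- The subcategory. -/
abbrev Cp (C : ObjectProperty D) : Type u := C.FullSubcategory

variable (H : (Cp C)ᵒᵖ ⥤ ModuleCat.{w} k) [H.Additive]

/-- Pullback of an element. -/
abbrev hm {K L : Cp C} (f : K ⟶ L) (x : H.obj (op L)) : H.obj (op K) := H.map f.op x

omit [H.Additive] in
lemma hm_comp {K L M : Cp C} (f : K ⟶ L) (g : L ⟶ M) (x : H.obj (op M)) :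
    hm H (f ≫ g) x = hm H f (hm H g x) := by simp [hm]

omit [H.Additive] in
lemma hm_id {K : Cp C} (x : H.obj (op K)) : hm H (𝟙 K) x = x := by simp [hm]

lemma hm_add {K L : Cp C} (f g : K ⟶ L) (x : H.obj (op L)) :
    hm H (f + g) x = hm H f x + hm H g x := by
  simp [hm, op_add, H.map_add]

lemma hm_zero {K L : Cp C} (x : H.obj (op L)) : hm H (0 : K ⟶ L) x = 0 := by simp [hm]

/-- Natural families of maps `Hom(K, X) → H(K)`. -/
def fam (X : D) : AddSubgroup (∀ j : Cp C, (j.obj ⟶ X) →+ H.obj (op j)) where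
  carrier := {η | ∀ (i j : Cp C) (f : i ⟶ j) (u : j.obj ⟶ X), η i (f.hom ≫ u) = hm H f (η j u)}
  add_mem' {a b} ha hb i j f u := by
    simp only [Pi.add_apply, AddMonoidHom.add_apply, ha i j f u, hb i j f u, hm, map_add]
  zero_mem' i j f u := by simp [hm]
  neg_mem' {a} ha i j f u := by
    simp only [Pi.neg_apply, AddMonoidHom.neg_apply, ha i j f u, hm, map_neg]

/-- Pullback of a family. -/
def pull {X X' : D} (g : X' ⟶ X) : fam H X →+ fam H X' where
  toFun η := ⟨fun j => (η.1 j).comp (Preadditive.rightComp j.obj g), fun i j f u => by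
    change η.1 i ((f.hom ≫ u) ≫ g) = hm H f (η.1 j (u ≫ g))
    rw [Category.assoc]
    exact η.2 i j f _⟩
  map_zero' := by apply Subtype.ext; funext j; ext u; rfl
  map_add' η η' := by apply Subtype.ext; funext j; ext u; rfl

lemma pull_apply {X X' : D} (g : X' ⟶ X) (η : fam H X) (j : Cp C) (u : j.obj ⟶ X') :
    (pull H g η).1 j u = η.1 j (u ≫ g) := rfl

lemma fam_ext {X : D} {η η' : fam H X} (h : ∀ j u, η.1 j u = η'.1 j u) : η = η' :=
  Subtype.ext (funext fun j => AddMonoidHom.ext (h j))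

lemma pull_comp {X X' X'' : D} (g : X' ⟶ X) (g' : X'' ⟶ X') (η : fam H X) :
    pull H (g' ≫ g) η = pull H g' (pull H g η) :=
  fam_ext H fun j u => by simp only [pull_apply, Category.assoc]

lemma pull_zero {X X' : D} (η : fam H X) : pull H (0 : X' ⟶ X) η = 0 :=
  fam_ext H fun j u => by rw [pull_apply, comp_zero, map_zero]; rfl

lemma pull_add {X X' : D} (g g' : X' ⟶ X) (η : fam H X) : pull H (g + g') η = pull H g η + pull H g' η :=
  fam_ext H fun j u => by rw [pull_apply, Preadditive.comp_add, map_add]; rfl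

lemma pull_id {X : D} (η : fam H X) : pull H (𝟙 X) η = η :=
  fam_ext H fun j u => by rw [pull_apply, Category.comp_id]

/-- The family of an element. -/
def yon (K : Cp C) (x : H.obj (op K)) : fam H K.obj :=
  ⟨fun j => AddMonoidHom.mk' (fun a => hm H (ObjectProperty.homMk a : j ⟶ K) x) (fun a b => by
    rw [← hm_add]; rfl), fun i j f a => by
    change hm H (ObjectProperty.homMk (f.hom ≫ a) : i ⟶ K) x =
      hm H f (hm H (ObjectProperty.homMk a : j ⟶ K) x)
    rw [← hm_comp]; rfl⟩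

lemma eq_yon (K : Cp C) (η : fam H K.obj) : η = yon H K (η.1 K (𝟙 _)) := fam_ext H fun j u => by
  show η.1 j u = hm H (ObjectProperty.homMk u : j ⟶ K) (η.1 K (𝟙 _))
  rw [← η.2 j K (ObjectProperty.homMk u) (𝟙 _)]
  exact congrArg (η.1 j) (Category.comp_id u).symm

lemma yon_id (K : Cp C) (x : H.obj (op K)) : (yon H K x).1 K (𝟙 _) = x := by
  show hm H (ObjectProperty.homMk (𝟙 K.obj) : K ⟶ K) x = x
  exact (congrArg (fun t : K ⟶ K => hm H t x) (ObjectProperty.hom_ext _ rfl : (ObjectProperty.homMk (𝟙 K.obj) : K ⟶ K) = 𝟙 K)).trans (hm_id H x)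

section Extend

variable {X : D}

/-- A coherent graph of a partially defined family. -/
structure Good (Γ : ∀ j : Cp C, AddSubgroup ((j.obj ⟶ X) × H.obj (op j))) : Prop where
  stable : ∀ (i j : Cp C) (f : i ⟶ j) u h, (u, h) ∈ Γ j → (f.hom ≫ u, hm H f h) ∈ Γ i
  func : ∀ (j : Cp C) (h : H.obj (op j)), ((0 : j.obj ⟶ X), h) ∈ Γ j → h = 0

variable (hcl : Closed C) (hcoh : ∀ T ∈ distTriang D, ∀ (h₁ : C T.obj₁)
      (h₂ : C T.obj₂) (h₃ : C T.obj₃)
      (y : H.obj (op ⟨T.obj₂, h₂⟩)),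
      H.map (ObjectProperty.homMk T.mor₁ : (⟨T.obj₁, h₁⟩ : C.FullSubcategory) ⟶ ⟨T.obj₂, h₂⟩).op y = 0 →
        ∃ z : H.obj (op ⟨T.obj₃, h₃⟩),
          H.map (ObjectProperty.homMk T.mor₂ : (⟨T.obj₂, h₂⟩ : C.FullSubcategory) ⟶ ⟨T.obj₃, h₃⟩).op z = y)
  (hfin : ∀ K, Module.Finite k (H.obj K))
include hcl hcoh

lemma exists_one {Γ : ∀ j : Cp C, AddSubgroup ((j.obj ⟶ X) × H.obj (op j))}
    (hΓ : Good H Γ) {i j : Cp C} (u : j.obj ⟶ X) (f : i ⟶ j) (x : H.obj (op i))
    (hx : (f.hom ≫ u, x) ∈ Γ i) : ∃ h, hm H f h = x := by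
  obtain ⟨Z, g, δ, hT⟩ := distinguished_cocone_triangle₁ f.hom
  have hZ : C Z := hcl.cocone _ hT i.property j.property
  let gm : (⟨Z, hZ⟩ : Cp C) ⟶ i := ObjectProperty.homMk g
  let e : (⟨Z, hZ⟩ : Cp C) ≅ ⟨Z, hZ⟩ := Iso.refl _
  have h0 : hm H gm x = 0 := by
    have h := hΓ.stable _ _ (e.hom ≫ gm) _ _ hx
    have hz : (e.hom ≫ gm).hom ≫ f.hom ≫ u = 0 := by
      have h1 : g ≫ f.hom = 0 := comp_distTriang_mor_zero₁₂ _ hT
      simp [gm, reassoc_of% h1]
    rw [hz] at h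
    have := hΓ.func _ _ h
    rw [hm_comp] at this
    calc hm H gm x = hm H e.inv (hm H e.hom (hm H gm x)) := by
          rw [← hm_comp H e.inv, e.inv_hom_id, hm_id]
      _ = 0 := by rw [this]; exact map_zero _
  exact hcoh _ hT hZ i.property j.property x h0

/-- A condition imposed by `Γ` on the value at `u`. -/
abbrev Cond (Γ : ∀ j : Cp C, AddSubgroup ((j.obj ⟶ X) × H.obj (op j))) {j : Cp C}
    (u : j.obj ⟶ X) : Type _ :=
  Σ i : Cp C, {p : (i ⟶ j) × H.obj (op i) // (p.1.hom ≫ u, p.2) ∈ Γ i}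

lemma exists_dom {Γ : ∀ j : Cp C, AddSubgroup ((j.obj ⟶ X) × H.obj (op j))}
    (hΓ : Good H Γ) {j : Cp C} (u : j.obj ⟶ X) (s : Finset (Cond H Γ u)) :
    ∃ (q : Cond H Γ u), ∀ d ∈ s, ∃ a : d.1 ⟶ q.1, a ≫ q.2.1.1 = d.2.1.1 ∧
      hm H a q.2.1.2 = d.2.1.2 := by
  classical
  induction s using Finset.induction_on with
  | empty => exact ⟨⟨j, ⟨(0, 0), by simp [Prod.mk_zero_zero]⟩⟩, fun d hd => by simp at hd⟩
  | @insert d s _ ih =>
    obtain ⟨⟨i, ⟨f, x⟩, hx⟩, hq⟩ := ih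
    obtain ⟨i', ⟨f', x'⟩, hx'⟩ := d
    have hAB : C (i.obj ⊞ i'.obj) := hcl.biprod i.property i'.property
    let S : Cp C := ⟨i.obj ⊞ i'.obj, hAB⟩
    let l : Cp C := S
    let e : l ≅ S := Iso.refl _
    let p : l ⟶ i := e.hom ≫ ObjectProperty.homMk biprod.fst
    let p' : l ⟶ i' := e.hom ≫ ObjectProperty.homMk biprod.snd
    let a : i ⟶ l := (ObjectProperty.homMk biprod.inl : i ⟶ S) ≫ e.inv
    let a' : i' ⟶ l := (ObjectProperty.homMk biprod.inr : i' ⟶ S) ≫ e.inv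
    have hap : a ≫ p = 𝟙 _ := by
      simp only [a, p, Category.assoc, Iso.inv_hom_id_assoc]; ext; exact biprod.inl_fst
    have hap' : a ≫ p' = 0 := by
      simp only [a, p', Category.assoc, Iso.inv_hom_id_assoc]; ext; exact biprod.inl_snd
    have ha'p : a' ≫ p = 0 := by
      simp only [a', p, Category.assoc, Iso.inv_hom_id_assoc]; ext; exact biprod.inr_fst
    have ha'p' : a' ≫ p' = 𝟙 _ := by
      simp only [a', p', Category.assoc, Iso.inv_hom_id_assoc]; ext; exact biprod.inr_snd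
    refine ⟨⟨l, ⟨(p ≫ f + p' ≫ f', hm H p x + hm H p' x'), ?_⟩⟩, ?_⟩
    · have h := (Γ l).add_mem (hΓ.stable _ _ p _ _ hx) (hΓ.stable _ _ p' _ _ hx')
      have he : (p ≫ f + p' ≫ f').hom ≫ u = p.hom ≫ f.hom ≫ u + p'.hom ≫ f'.hom ≫ u := by
        rw [← Category.assoc, ← Category.assoc, ← Preadditive.add_comp]; rfl
      rw [he]; exact h
    · intro d hd
      rcases Finset.mem_insert.1 hd with rfl | hd
      · exact ⟨a', by simp [Preadditive.comp_add, reassoc_of% ha'p, reassoc_of% ha'p'], by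
          change hm H a' (hm H p x + hm H p' x') = x'
          simp only [hm, map_add]
          change hm H a' (hm H p x) + hm H a' (hm H p' x') = x'
          rw [← hm_comp, ← hm_comp, ha'p, ha'p', hm_zero, hm_id, zero_add]⟩
      · obtain ⟨b, hb, hb'⟩ := hq d hd
        refine ⟨b ≫ a, ?_, ?_⟩
        · simp [Preadditive.comp_add, reassoc_of% hap, reassoc_of% hap', hb]
        · change hm H (b ≫ a) (hm H p x + hm H p' x') = d.2.1.2
          simp only [hm, map_add]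
          change hm H (b ≫ a) (hm H p x) + hm H (b ≫ a) (hm H p' x') = d.2.1.2
          rw [← hm_comp, ← hm_comp, Category.assoc b a p, Category.assoc b a p', hap, hap', comp_zero,
            hm_zero, add_zero, Category.comp_id, hb']

include hfin in
lemma exists_value {Γ : ∀ j : Cp C, AddSubgroup ((j.obj ⟶ X) × H.obj (op j))}
    (hΓ : Good H Γ) {j : Cp C} (u : j.obj ⟶ X) :
    ∃ h : H.obj (op j), ∀ (i : Cp C) (f : i ⟶ j) (x : H.obj (op i)),
      (f.hom ≫ u, x) ∈ Γ i → hm H f h = x := by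
  classical
  haveI := hfin (op j)
  let W : Finset (Cond H Γ u) → Submodule k (H.obj (op j)) := fun s =>
    s.inf fun d => LinearMap.ker (H.map d.2.1.1.op).hom
  have solve : ∀ s : Finset (Cond H Γ u), ∃ h, ∀ d ∈ s, hm H d.2.1.1 h = d.2.1.2 := by
    intro s
    obtain ⟨q, hq⟩ := exists_dom H hcl hcoh hΓ u s
    obtain ⟨h, hh⟩ := exists_one H hcl hcoh hΓ u q.2.1.1 q.2.1.2 q.2.2
    refine ⟨h, fun d hd => ?_⟩
    obtain ⟨a, ha, ha'⟩ := hq d hd
    rw [← ha, hm_comp, hh, ha']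
  obtain ⟨-, ⟨s, rfl⟩, hmin⟩ :=
    IsArtinian.set_has_minimal (Set.range W) (Set.range_nonempty W)
  obtain ⟨h, hh⟩ := solve s
  refine ⟨h, fun i f x hx => ?_⟩
  let d : Cond H Γ u := ⟨i, ⟨(f, x), hx⟩⟩
  obtain ⟨h', hh'⟩ := solve (insert d s)
  have hmem : h' - h ∈ W s := by
    simp only [W, Submodule.mem_finsetInf]
    intro d' hd'
    rw [LinearMap.mem_ker, map_sub, sub_eq_zero]
    exact (hh' d' (Finset.mem_insert_of_mem hd')).trans (hh d' hd').symm
  have hle : W (insert d s) ≤ W s := Finset.inf_mono (Finset.subset_insert _ _)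
  have heq : W (insert d s) = W s := eq_of_le_of_not_lt hle (hmin _ ⟨_, rfl⟩)
  rw [← heq] at hmem
  simp only [W, Submodule.mem_finsetInf] at hmem
  have := hmem d (Finset.mem_insert_self _ _)
  rw [LinearMap.mem_ker, map_sub, sub_eq_zero] at this
  exact this.symm.trans (hh' d (Finset.mem_insert_self _ _))

include hfin in
/-- Any coherent graph extends to a family. -/
lemma exists_extend {Γ₀ : ∀ j : Cp C, AddSubgroup ((j.obj ⟶ X) × H.obj (op j))}
    (hΓ₀ : Good H Γ₀) : ∃ ζ : fam H X, ∀ j u h, (u, h) ∈ Γ₀ j → ζ.1 j u = h := by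
  obtain ⟨Γ, hle, hΓ⟩ := zorn_le_nonempty₀ {Γ | Good H (X := X) Γ} (fun C hC hch y hy => by
    have hmem := mem_chain_sSup (A := fun j => (j.obj ⟶ X) × H.obj (op j)) ⟨y, hy⟩ hch
    refine ⟨fun j => sSup ((fun Γ => Γ j) '' C), ⟨fun i j f u h hh => ?_, fun j h hh => ?_⟩,
      fun z hz j => le_sSup ⟨z, hz, rfl⟩⟩
    · obtain ⟨Γ, hΓC, hu⟩ := (hmem _ _).1 hh
      exact (hmem _ _).2 ⟨Γ, hΓC, (hC hΓC).stable i j f u h hu⟩
    · obtain ⟨Γ, hΓC, hu⟩ := (hmem _ _).1 hh
      exact (hC hΓC).func j h hu) Γ₀ hΓ₀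
  have good : Good H Γ := hΓ.1
  have total : ∀ (j : Cp C) (u : j.obj ⟶ X), ∃ h, (u, h) ∈ Γ j := by
    intro j u
    obtain ⟨h, hh⟩ := exists_value H hcl hcoh hfin good u
    let φ : ∀ i : Cp C, (i ⟶ j) →+ (i.obj ⟶ X) × H.obj (op i) := fun i =>
      AddMonoidHom.mk' (fun f => (f.hom ≫ u, hm H f h)) fun f g => by
        refine Prod.ext ?_ (hm_add H f g h)
        change (f.hom + g.hom) ≫ u = _
        exact Preadditive.add_comp _ _ _ _ _ _
    let Γ' : ∀ i : Cp C, AddSubgroup ((i.obj ⟶ X) × H.obj (op i)) :=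
      fun i => Γ i ⊔ (φ i).range
    have hΓ' : Good H Γ' := by
      refine ⟨fun i i' g v x hv => ?_, fun i x hx => ?_⟩
      · obtain ⟨⟨v₁, x₁⟩, h₁, -, ⟨f, rfl⟩, hsum⟩ := AddSubgroup.mem_sup.1 hv
        obtain ⟨rfl, rfl⟩ := Prod.mk.injEq _ _ _ _ ▸ hsum
        refine AddSubgroup.mem_sup.2 ⟨_, good.stable i i' g v₁ x₁ h₁, _, ⟨g ≫ f, rfl⟩, ?_⟩
        simp [φ, Preadditive.comp_add, hm]
      · obtain ⟨⟨v₁, x₁⟩, h₁, -, ⟨f, rfl⟩, hsum⟩ := AddSubgroup.mem_sup.1 hx
        obtain ⟨hv, rfl⟩ := Prod.mk.injEq _ _ _ _ ▸ hsum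
        have hv' : f.hom ≫ u = -v₁ := eq_neg_of_add_eq_zero_right hv
        have h' : (f.hom ≫ u, -x₁) ∈ Γ i := by
          rw [hv']; exact (Γ i).neg_mem h₁
        change x₁ + hm H f h = 0
        rw [hh i f _ h', add_neg_cancel]
    have := hΓ.2 (y := Γ') hΓ' (fun i => le_sup_left) j
    exact ⟨h, this (AddSubgroup.mem_sup_right ⟨𝟙 _, by simp [φ, hm_id]⟩)⟩
  choose v hv using total
  have uniq : ∀ (j : Cp C) u h, (u, h) ∈ Γ j → v j u = h := fun j u h hh => by
    have h1 := good.func j (v j u - h) (by simpa using (Γ j).sub_mem (hv j u) hh)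
    exact sub_eq_zero.1 h1
  refine ⟨⟨fun j => AddMonoidHom.mk' (v j) fun a b =>
    uniq j _ _ ((Γ j).add_mem (hv j a) (hv j b)), fun i j f u => ?_⟩, fun j u h hh => ?_⟩
  · exact uniq i _ _ (good.stable i j f u _ (hv j u))
  · exact uniq j u h (hle j hh)

end Extend

end Groth.Agent.H02CA.PerfRep
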