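import Groth.Agent.H02CA.PerfRep.Fam
import Mathlib.Logic.Small.Basic

/-!
# Representability of functors with finite-dimensional values on a subcategory of relatively compact objects
-/

set_option autoImplicit false
set_option linter.style.haveILetI false
set_option linter.unusedSectionVars false

universe v w u

open CategoryTheory CategoryTheory.Limits CategoryTheory.Pretriangulated Opposite
open Groth.Agent.H16Derived.QCohD Groth.Agent.H16Derived.Thomason

namespace Groth.Agent.H02CA.PerfRep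

variable {k : Type v} [Field k]
variable {D : Type u} [Category.{w} D] [Preadditive D] [HasZeroObject D] [HasShift D ℤ]
  [∀ n : ℤ, (shiftFunctor D n).Additive] [Pretriangulated D] [HasCoproducts.{v} D]
variable {C : ObjectProperty D} (H : (Cp C)ᵒᵖ ⥤ ModuleCat.{w} k) [H.Additive]
variable (hcl : Closed C) (hcoh : ∀ T ∈ distTriang D, ∀ (h₁ : C T.obj₁)
      (h₂ : C T.obj₂) (h₃ : C T.obj₃)
      (y : H.obj (op ⟨T.obj₂, h₂⟩)),
      H.map (ObjectProperty.homMk T.mor₁ : (⟨T.obj₁, h₁⟩ : C.FullSubcategory) ⟶ ⟨T.obj₂, h₂⟩).op y = 0 →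
        ∃ z : H.obj (op ⟨T.obj₃, h₃⟩),
          H.map (ObjectProperty.homMk T.mor₂ : (⟨T.obj₂, h₂⟩ : C.FullSubcategory) ⟶ ⟨T.obj₃, h₃⟩).op z = y)
  (hfin : ∀ K, Module.Finite k (H.obj K))

include hcl hcoh hfin in
/-- Families are exact on triangles. -/
lemma exists_pull {T : Triangle D} (hT : T ∈ distTriang D) (η : fam H T.obj₂) (h0 : pull H T.mor₁ η = 0) :
    ∃ ζ : fam H T.obj₃, pull H T.mor₂ ζ = η := by
  let Γ₀ : ∀ j : Cp C, AddSubgroup ((j.obj ⟶ T.obj₃) × H.obj (op j)) := fun j =>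
    ((Preadditive.rightComp j.obj T.mor₂).prod (η.1 j)).range
  have hΓ₀ : Good H Γ₀ := by
    refine ⟨fun i j f u h hu => ?_, fun j h hu => ?_⟩
    · obtain ⟨w', hw⟩ := hu
      obtain ⟨rfl, rfl⟩ := Prod.mk.injEq _ _ _ _ ▸ hw
      exact ⟨f.hom ≫ w', Prod.ext (Category.assoc _ _ _) (η.2 i j f w')⟩
    · obtain ⟨w', hw⟩ := hu
      obtain ⟨hw₁, rfl⟩ := Prod.mk.injEq _ _ _ _ ▸ hw
      obtain ⟨z, hz⟩ := Triangle.coyoneda_exact₂ _ hT w' hw₁
      change η.1 j w' = 0
      rw [hz, ← pull_apply H T.mor₁ η j z, h0]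
      rfl
  obtain ⟨ζ, hζ⟩ := exists_extend H hcl hcoh hfin hΓ₀
  exact ⟨ζ, fam_ext H fun j u => hζ j _ _ ⟨u, rfl⟩⟩

variable {P : D → Prop} (hCh : ∀ K : D, C K → FinSupp.Holds.{v} P K)

include hCh in
/-- Families on a sum. -/
lemma bijective_pull_sigma {κ : Type v} (Y : κ → D) (hY : ∀ i, P (Y i)) :
    Function.Bijective (fun η : fam H (∐ Y) => fun i => pull H (Sigma.ι Y i) η) := by
  classical
  let e : ∀ j : Cp C, DirectSum κ (fun i => j.obj ⟶ Y i) ≃+ (j.obj ⟶ ∐ Y) := fun j =>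
    AddEquiv.ofBijective (PerfAux.homSumToHomCoprod j.obj Y)
      ((FinSupp.isCompactObjRel_iff j.obj).2 (hCh _ j.property) κ Y hY)
  have he : ∀ j i w', e j (DirectSum.of _ i w') = w' ≫ Sigma.ι Y i := fun j i w' => by
    simp [e, PerfAux.homSumToHomCoprod, DirectSum.toAddMonoid_of, Preadditive.rightComp]
  constructor
  · intro η η' h
    refine fam_ext H fun j u => ?_
    obtain ⟨b, rfl⟩ := (e j).surjective u
    induction b using DirectSum.induction_on with
    | zero => simp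
    | of i w' =>
      rw [he]
      exact congrArg (fun t : ∀ i, fam H (Y i) => (t i).1 j w') h
    | add a b ha hb => simp only [map_add, ha, hb]
  · intro ηs
    let v : ∀ j : Cp C, (j.obj ⟶ ∐ Y) →+ H.obj (op j) := fun j =>
      (DirectSum.toAddMonoid fun i => (ηs i).1 j).comp (e j).symm.toAddMonoidHom
    have hv : ∀ j i w', v j (w' ≫ Sigma.ι Y i) = (ηs i).1 j w' := fun j i w' => by
      rw [← he]
      simp [v]
    refine ⟨⟨v, fun i j f u => ?_⟩, ?_⟩
    · obtain ⟨b, rfl⟩ := (e j).surjective u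
      induction b using DirectSum.induction_on with
      | zero => simp [hm]
      | of l w' => rw [he, ← Category.assoc, hv, hv]; exact (ηs l).2 i j f w'
      | add a b ha hb => simp only [map_add, Preadditive.comp_add, ha, hb, hm]
    · funext i
      exact fam_ext H fun j w' => hv j i w'

/-- `e` represents families at `Z`. -/
def Repr {F : D} (e : fam H F) (Z : D) : Prop := Function.Bijective fun g : Z ⟶ F => pull H g e

theorem Repr.of_iso {F : D} {e : fam H F} {Z Z' : D} (i : Z ≅ Z') (h : Repr H e Z) : Repr H e Z' := by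
  refine ⟨fun f f' hf => (cancel_epi i.hom).1 (h.1 ?_), fun φ => ?_⟩
  · simp only at hf ⊢
    rw [pull_comp, pull_comp, hf]
  · obtain ⟨f, hf⟩ := h.2 (pull H i.hom φ)
    refine ⟨i.inv ≫ f, ?_⟩
    simp only at hf ⊢
    rw [pull_comp, hf, ← pull_comp, i.inv_hom_id, pull_id]

include hcl hcoh hfin in
/-- The three out of two property. -/
theorem Repr.cone {F : D} {e : fam H F} (T : Triangle D) (hT : T ∈ distTriang D)
    (hA : Repr H e T.obj₁) (hB : Repr H e T.obj₂) (hA' : Repr H e (T.obj₁⟦(1 : ℤ)⟧))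
    (hB' : Repr H e (T.obj₂⟦(1 : ℤ)⟧)) : Repr H e T.obj₃ := by
  have z : ∀ {Z : D}, Repr H e Z → ∀ a : Z ⟶ F, pull H a e = 0 → a = 0 := fun hZ a ha =>
    hZ.1 (ha.trans (pull_zero H e).symm)
  let r : T.obj₁⟦(1 : ℤ)⟧ ⟶ T.obj₂⟦(1 : ℤ)⟧ := T.rotate.rotate.mor₂
  have hr0 : T.mor₃ ≫ r = 0 :=
    comp_distTriang_mor_zero₁₂ _ (rot_of_distTriang _ (rot_of_distTriang _ hT))
  have key : ∀ c : T.obj₃ ⟶ F, pull H c e = 0 → c = 0 := by
    intro c hc
    have h1 : T.mor₂ ≫ c = 0 := z hB _ (by rw [pull_comp, hc, map_zero])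
    obtain ⟨a, ha⟩ := Triangle.yoneda_exact₃ _ hT c h1
    obtain ⟨ψ, hψ⟩ := exists_pull H hcl hcoh hfin (rot_of_distTriang _ (rot_of_distTriang _ hT)) (pull H a e)
      (by show pull H T.mor₃ (pull H a e) = 0; rw [← pull_comp, ← ha, hc])
    obtain ⟨b, hb⟩ := hB'.2 ψ
    have h3 : a = r ≫ b := hA'.1 (by
      simp only at hb ⊢
      rw [pull_comp, hb]
      exact hψ.symm)
    rw [ha, h3]
    exact (Category.assoc _ _ _).symm.trans ((congrArg (· ≫ b) hr0).trans zero_comp)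
  refine ⟨fun c c' hcc => sub_eq_zero.1 (key _ ?_), fun φ => ?_⟩
  · simp only at hcc
    have hadd := pull_add H (c - c') c' e
    rw [sub_add_cancel] at hadd
    rw [hcc] at hadd
    exact add_eq_right.1 hadd.symm
  · obtain ⟨b, hb⟩ := hB.2 (pull H T.mor₂ φ)
    simp only at hb
    have h1 : T.mor₁ ≫ b = 0 := z hA _ (by
      rw [pull_comp, hb, ← pull_comp, comp_distTriang_mor_zero₁₂ _ hT, pull_zero])
    obtain ⟨c, hc⟩ := Triangle.yoneda_exact₂ _ hT b h1
    obtain ⟨ψ, hψ⟩ := exists_pull H hcl hcoh hfin (rot_of_distTriang _ hT) (φ - pull H c e) (by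
      show pull H T.mor₂ (φ - pull H c e) = 0
      rw [map_sub, ← pull_comp, ← hc, hb, sub_self])
    obtain ⟨a, ha⟩ := hA'.2 ψ
    refine ⟨c + T.mor₃ ≫ a, ?_⟩
    simp only at ha ⊢
    have h3 : pull H T.mor₃ ψ = φ - pull H c e := hψ
    rw [pull_add, pull_comp, ha, h3, add_sub_cancel]

variable {ι : Type v} (σ : ι → Cp C) (hP : Loc.{v} P) (hCP : ∀ K : D, C K → P K)
  [hsmall : ∀ (i : ι) (Z : D), Small.{v} ((σ i).obj ⟶ Z)]

/-- A tower of families on which `σ` is adapted. -/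
structure Tel where
  F : ℕ → D
  e : ∀ n, fam H (F n)
  t : ∀ n, F n ⟶ F (n + 1)
  w : ∀ n, pull H (t n) (e (n + 1)) = e n
  kill : ∀ (n : ℕ) (i : ι) (f : (σ i).obj ⟶ F n), (e n).1 (σ i) f = 0 → f ≫ t n = 0
  surj : ∀ (i : ι) (x : H.obj (op (σ i))), ∃ c, (e 0).1 (σ i) c = x

include hcl hcoh hfin hCh hP hCP

theorem exists_step (p : {F : D // P F}) (e : fam H p.1) :
    ∃ (q : {F : D // P F}) (e' : fam H q.1) (t : p.1 ⟶ q.1), pull H t e' = e ∧
      ∀ (i : ι) (f : (σ i).obj ⟶ p.1), e.1 (σ i) f = 0 → f ≫ t = 0 := by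
  let κ := Σ i, Shrink.{v} {f : (σ i).obj ⟶ p.1 // e.1 (σ i) f = 0}
  let g : (∐ fun l : κ => (σ l.1).obj) ⟶ p.1 := Sigma.desc fun l => ((equivShrink _).symm l.2).1
  obtain ⟨F', t, δ, hT⟩ := distinguished_cocone_triangle g
  have hg : pull H g e = 0 := by
    refine (bijective_pull_sigma H hCh _ (fun l : κ => hCP _ (σ l.1).property)).1 (funext fun l => ?_)
    simp only [map_zero]
    rw [← pull_comp, Sigma.ι_desc, eq_yon H (σ l.1) (pull H _ e), pull_apply, Category.id_comp,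
      ((equivShrink _).symm l.2).2]
    exact fam_ext H fun j u => map_zero (H.map _).hom
  obtain ⟨e', he'⟩ := exists_pull H hcl hcoh hfin hT e hg
  refine ⟨⟨F', hP.cone _ hT (hP.sum _ _ fun l => hCP _ (σ l.1).property) p.2⟩, e', t, he', fun i f hf => ?_⟩
  have h1 : Sigma.ι (fun l : κ => (σ l.1).obj) ⟨i, equivShrink _ ⟨f, hf⟩⟩ ≫ g = f := by
    rw [Sigma.ι_desc, Equiv.symm_apply_apply]
  rw [← h1, Category.assoc]
  exact (congrArg (_ ≫ ·) (comp_distTriang_mor_zero₁₂ _ hT)).trans comp_zero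

theorem exists_tel : ∃ T : Tel H σ, ∀ n, P (T.F n) := by
  choose q e' t hw hk using fun p : (F : {F : D // P F}) × fam H F.1 =>
    exists_step H hcl hcoh hfin hCh σ hP hCP p.1 p.2
  haveI : ∀ i, Small.{v} (H.obj (op (σ i))) := fun i => by
    haveI := hfin (op (σ i))
    obtain ⟨m, f, hf⟩ := Module.Finite.exists_fin' k (H.obj (op (σ i)))
    exact small_of_surjective (f := f) hf
  let κ := Σ i, Shrink.{v} (H.obj (op (σ i)))
  obtain ⟨d, hd⟩ := (bijective_pull_sigma H hCh (fun l : κ => (σ l.1).obj) (fun l => hCP _ (σ l.1).property)).2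
    (fun l => yon H (σ l.1) ((equivShrink _).symm l.2))
  let Z : ℕ → (F : {F : D // P F}) × fam H F.1 := fun n =>
    Nat.rec ⟨⟨∐ fun l : κ => (σ l.1).obj, hP.sum _ _ fun l => hCP _ (σ l.1).property⟩, d⟩
      (fun _ p => ⟨q p, e' p⟩) n
  refine ⟨⟨fun n => (Z n).1.1, fun n => (Z n).2, fun n => t (Z n), fun n => hw (Z n),
    fun n => hk (Z n), fun i x => ⟨Sigma.ι (fun l : κ => (σ l.1).obj) ⟨i, equivShrink _ x⟩, ?_⟩⟩,
    fun n => (Z n).1.2⟩
  have h1 := congrArg (fun η => (η : fam H _).1 (σ i) (𝟙 _)) (congrFun hd ⟨i, equivShrink _ x⟩)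
  simp only [pull_apply, Category.id_comp, yon_id, Equiv.symm_apply_apply] at h1
  exact h1

theorem exists_colim (S : Tel H σ) (hS : ∀ n, P (S.F n))
    (hshift : ∀ i (m : ℤ), ∃ j, Nonempty ((σ j).obj ≅ (σ i).obj⟦m⟧)) :
    ∃ (F : D) (e : fam H F), P F ∧ ∀ i, Repr H e (σ i).obj := by
  let X : ULift.{v} ℕ → D := fun n => S.F n.down
  let sh : (∐ X) ⟶ ∐ X := Sigma.desc fun n => S.t n.down ≫ Sigma.ι X ⟨n.down + 1⟩
  obtain ⟨F, a, δ, hT⟩ := distinguished_cocone_triangle (𝟙 (∐ X) - sh)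
  have hb := bijective_pull_sigma H hCh X (fun n => hS n.down)
  obtain ⟨E', hE⟩ := hb.2 fun n => S.e n.down
  have hE0 : ∀ n, pull H (Sigma.ι X n) E' = S.e n.down := congrFun hE
  have hE' : pull H (𝟙 (∐ X) - sh) E' = 0 := by
    have hsub : ∀ {A B : D} (f g : A ⟶ B) (η : fam H B), pull H f η = pull H g η → pull H (f - g) η = 0 :=
      fun f g η h => by
        have hadd := pull_add H (f - g) g η
        rw [sub_add_cancel, h] at hadd
        exact add_eq_right.1 hadd.symm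
    refine hsub _ _ _ (hb.1 (funext fun n => ?_))
    simp only
    rw [pull_id, ← pull_comp, Sigma.ι_desc, pull_comp, hE0, hE0]
    exact (S.w n.down).symm
  obtain ⟨e, he⟩ := exists_pull H hcl hcoh hfin hT E' hE'
  have he' : pull H a e = E' := he
  let an : ∀ n, S.F n ⟶ F := fun n => Sigma.ι X ⟨n⟩ ≫ a
  have han : ∀ n, pull H (an n) e = S.e n := fun n => by
    simp only [an, pull_comp, he']
    exact hE0 ⟨n⟩
  have hsh : ∀ n, S.t n ≫ an (n + 1) = an n := fun n => by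
    have h0 : (𝟙 (∐ X) - sh) ≫ a = 0 := comp_distTriang_mor_zero₁₂ _ hT
    have h1 := congrArg (Sigma.ι X ⟨n⟩ ≫ ·) h0
    simp only [sh, Preadditive.sub_comp, Preadditive.comp_sub, Category.id_comp, comp_zero,
      Sigma.ι_desc_assoc, Category.assoc, sub_eq_zero] at h1
    exact h1.symm
  have hle : ∀ n N, n ≤ N → ∃ τ : S.F n ⟶ S.F N, τ ≫ an N = an n := fun n N h => by
    induction h with
    | refl => exact ⟨𝟙 _, Category.id_comp _⟩
    | step _ ih =>
      obtain ⟨τ, hτ⟩ := ih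
      exact ⟨τ ≫ S.t _, by rw [Category.assoc, hsh, hτ]⟩
  refine ⟨F, e, hP.cone _ hT (hP.sum _ _ fun n => hS _) (hP.sum _ _ fun n => hS _),
    fun i => ⟨?_, fun φ => ?_⟩⟩
  · suffices key : ∀ f : (σ i).obj ⟶ F, pull H f e = 0 → f = 0 by
      intro f f' hff
      refine sub_eq_zero.1 (key _ ?_)
      simp only at hff
      have hadd := pull_add H (f - f') f' e
      rw [sub_add_cancel, hff] at hadd
      exact add_eq_right.1 hadd.symm
    intro f hf
    have hδ : f ≫ δ = 0 := by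
      obtain ⟨j, ⟨ej⟩⟩ := hshift i (-1)
      let w' : (σ i).obj ⟶ (∐ X)⟦(1 : ℤ)⟧ := f ≫ δ
      have hw : w' ≫ (𝟙 (∐ X) - sh)⟦(1 : ℤ)⟧' = 0 := by
        have h' : δ ≫ (𝟙 (∐ X) - sh)⟦(1 : ℤ)⟧' = 0 := comp_distTriang_mor_zero₃₁ _ hT
        rw [Category.assoc, h', comp_zero]
      let c := shiftFunctorCompIsoId D (1 : ℤ) (-1) (by norm_num)
      let a' : (σ j).obj ⟶ ∐ X := ej.hom ≫ w'⟦(-1 : ℤ)⟧' ≫ c.hom.app _
      have ha' : a' ≫ (𝟙 _ - sh) = 0 := by
        simp only [a', Category.assoc]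
        erw [← c.hom.naturality (𝟙 (∐ X) - sh)]
        rw [Functor.comp_map, ← Functor.map_comp_assoc, hw, Functor.map_zero, zero_comp, comp_zero]
      rw [Preadditive.comp_sub, Category.comp_id, sub_eq_zero] at ha'
      have h0 := LeadBrown.eq_zero_of_fixed (P := P) S.F S.t hS (hCh _ (σ j).property) a' ha'.symm
      have h1 : w'⟦(-1 : ℤ)⟧' = 0 := by
        simpa [a'] using h0
      exact (shiftFunctor D (-1 : ℤ)).map_eq_zero_iff.1 h1
    obtain ⟨α, hα⟩ := Triangle.coyoneda_exact₃ _ hT f hδ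
    change (σ i).obj ⟶ ∐ X at α
    obtain ⟨s, hs⟩ := hCh _ (σ i).property (ULift.{v} ℕ) X (fun n => hS n.down) α
    let N : ℕ := s.sup fun n => n.down
    obtain ⟨β, rfl⟩ : ∃ β : (σ i).obj ⟶ S.F N, β ≫ an N = f := by
      have hf' : f = (α : (σ i).obj ⟶ ∐ X) ≫ a := hα
      rw [hf', eq_sum_ι X α s hs, Preadditive.sum_comp]
      have hle' : ∀ n ∈ s, ∃ τ : S.F n.down ⟶ S.F N, τ ≫ an N = an n.down := fun n hn =>
        hle _ _ (Finset.le_sup (f := fun n : ULift.{v} ℕ => n.down) hn)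
      choose τ hτ using hle'
      refine ⟨∑ n ∈ s.attach, (α ≫ FinSupp.proj X n.1) ≫ τ n.1 n.2, ?_⟩
      rw [Preadditive.sum_comp, ← Finset.sum_attach (s := s)]
      refine Finset.sum_congr rfl fun n _ => ?_
      simp only [Category.assoc, hτ n.1 n.2, an]
    have hk : (S.e N).1 (σ i) β = 0 := by
      rw [pull_comp, han] at hf
      have h1 := congrArg (fun η : fam H _ => η.1 (σ i) (𝟙 _)) hf
      simp only [pull_apply, Category.id_comp] at h1
      exact h1
    rw [← hsh N, ← Category.assoc, S.kill N i β hk, zero_comp]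
  · obtain ⟨c, hc⟩ := S.surj i (φ.1 (σ i) (𝟙 _))
    refine ⟨c ≫ an 0, ?_⟩
    simp only
    rw [pull_comp, han, eq_yon H (σ i) (pull H c (S.e 0)), eq_yon H (σ i) φ, pull_apply, Category.id_comp]
    exact congrArg (yon H (σ i)) hc

/-- Representability. -/
theorem exists_universal (hPsh : ∀ (Z : D) (n : ℤ), P Z → P (Z⟦n⟧))
    (hshift : ∀ i (m : ℤ), ∃ j, Nonempty ((σ j).obj ≅ (σ i).obj⟦m⟧))
    (hgen : ∀ Z, P Z → (∀ i (f : (σ i).obj ⟶ Z), f = 0) → IsZero Z) :
    ∃ (F : D) (e : fam H F), P F ∧ ∀ Z, P Z → Repr H e Z := by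
  obtain ⟨S, hS⟩ := exists_tel H hcl hcoh hfin hCh σ hP hCP
  obtain ⟨F, e, hF, hbij⟩ := exists_colim H hcl hcoh hfin hCh σ hP hCP S hS hshift
  let Q : D → Prop := fun Z => P Z ∧ ∀ n : ℤ, Repr H e (Z⟦n⟧)
  have hQ : Loc.{v} Q :=
    { of_iso := fun i h => ⟨hP.of_iso i h.1, fun n => (h.2 n).of_iso H ((shiftFunctor D n).mapIso i)⟩
      sum := fun κ W h => ⟨hP.sum κ W fun l => (h l).1, fun n => by
        have hWn : ∀ l, P ((W l)⟦n⟧) := fun l => hPsh _ n (h l).1
        have hb := bijective_pull_sigma H hCh (fun l => (W l)⟦n⟧) hWn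
        refine Repr.of_iso H (asIso (sigmaComparison (shiftFunctor D n) W)) ⟨fun f f' hf => ?_, fun φ => ?_⟩
        · refine Sigma.hom_ext _ _ fun l => ((h l).2 n).1 ?_
          simp only at hf ⊢
          rw [pull_comp, pull_comp, hf]
        · choose c hc using fun l => ((h l).2 n).2 (pull H (Sigma.ι (fun l => (W l)⟦n⟧) l) φ)
          refine ⟨Sigma.desc c, hb.1 (funext fun l => ?_)⟩
          simp only
          rw [← pull_comp, Sigma.ι_desc]
          exact hc l⟩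
      cone := fun T hT h₁ h₂ => ⟨hP.cone T hT h₁.1 h₂.1, fun n => by
        have h' := Triangle.shift_distinguished _ hT n
        have hsh : ∀ Z : D, (∀ m : ℤ, Repr H e (Z⟦m⟧)) → Repr H e ((Z⟦n⟧)⟦(1 : ℤ)⟧) := fun Z hZ =>
          (hZ (n + 1)).of_iso H ((shiftFunctorAdd D n 1).app Z)
        exact Repr.cone H hcl hcoh hfin _ h' (h₁.2 n) (h₂.2 n) (hsh _ h₁.2) (hsh _ h₂.2)⟩ }
  have hQσ : ∀ i, Q (σ i).obj := fun i => ⟨hCP _ (σ i).property, fun n => by
    obtain ⟨j, ⟨ej⟩⟩ := hshift i n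
    exact (hbij j).of_iso H ej⟩
  refine ⟨F, e, hF, fun Z hZ => ?_⟩
  exact ((induction (fun i => (σ i).obj) P hP (fun i => hCP _ (σ i).property) (fun i => hCh _ (σ i).property)
    hshift hgen hQ hQσ hZ).2 0).of_iso H ((shiftFunctorZero D ℤ).app Z)

/-- The functor is represented on `C`. -/
theorem exists_representing [Linear k D] (hlin : ∀ (A B : Cp C) (r : k) (f : A ⟶ B), H.map (r • f).op = r • H.map f.op)
    (hPsh : ∀ (Z : D) (n : ℤ), P Z → P (Z⟦n⟧))
    (hshift : ∀ i (m : ℤ), ∃ j, Nonempty ((σ j).obj ≅ (σ i).obj⟦m⟧))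
    (hgen : ∀ Z, P Z → (∀ i (f : (σ i).obj ⟶ Z), f = 0) → IsZero Z) :
    ∃ F : D, P F ∧ Nonempty (H ≅ (ObjectProperty.ι C).op ⋙ (linearYoneda k D).obj F) := by
  obtain ⟨F, e, hF, hrep⟩ := exists_universal H hcl hcoh hfin hCh σ hP hCP hPsh hshift hgen
  let φ : ∀ K : Cp C, (K.obj ⟶ F) →ₗ[k] H.obj (op K) := fun K =>
    { toFun := fun u => e.1 K u
      map_add' := fun a b => map_add (e.1 K) a b
      map_smul' := fun r u => by
        have h := e.2 K K (r • 𝟙 K) u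
        have he : (r • 𝟙 K : K ⟶ K).hom ≫ u = r • u := by
          change (r • 𝟙 K.obj) ≫ u = r • u
          rw [Linear.smul_comp, Category.id_comp]
        simp only [hm, hlin, op_id, H.map_id] at h
        rw [he] at h
        exact h }
  have hφ : ∀ K, Function.Bijective (φ K) := by
    intro K
    refine ⟨fun u u' h => (hrep _ (hCP _ K.property)).1 ?_, fun x => ?_⟩
    · simp only
      rw [eq_yon H K (pull H u e), eq_yon H K (pull H u' e), pull_apply, pull_apply, Category.id_comp,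
        Category.id_comp]
      exact congrArg (yon H K) h
    · obtain ⟨u, hu⟩ := (hrep _ (hCP _ K.property)).2 (yon H K x)
      refine ⟨u, ?_⟩
      have h1 := congrArg (fun η : fam H _ => η.1 K (𝟙 _)) hu
      simp only [pull_apply, Category.id_comp, yon_id] at h1
      exact h1
  refine ⟨F, hF, ⟨(NatIso.ofComponents
    (fun K => (LinearEquiv.ofBijective (φ K.unop) (hφ K.unop)).toModuleIso) fun {K K'} f => ?_).symm⟩⟩
  ext u
  exact e.2 K'.unop K.unop f.unop u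

end Groth.Agent.H02CA.PerfRep
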